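import Cfsg.Agent.Lib.TensorMax.Touch
import Cfsg.Agent.Lib.NotMax.TensorTv

/-!
The stabiliser of a tensor decomposition is maximal in the special linear group.
-/

set_option autoImplicit false

namespace CfsgLib.TensorMax

open scoped Matrix Kronecker
open CfsgLib.FieldMax (Mem HasTv map_unit_inj inv_apply_apply apply_inv_apply)
open CfsgLib.Maximal (tv tv_val tv_mulVec mem_specialLinear_iff)

section abstract

variable {F : Type*} [Field F] {α β : Type} [Fintype α] [Fintype β] [DecidableEq α] [DecidableEq β]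

local notation "VV" => Matrix α β F

variable {M : Subgroup (Module.End F (Matrix α β F))ˣ} (hM : TExt M)

include hM

/-- Touching lines lead to a radical element outside the root group. -/
theorem TExt.nonRoot_of_touch (h : Touch M) : NonRoot M := by
  obtain ⟨g, hg, w, hw, hne, hk0⟩ := h
  have key : ∀ (m : ℕ) (g : (Module.End F VV)ˣ), g ∈ M → (line (α := α) w).map (g : Module.End F VV) ≠ line w →
      1 ≤ Module.finrank F (line (α := α) w ⊓ (line (α := α) w).map (g : Module.End F VV) : Submodule F VV) →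
      Fintype.card α ≤ m + Module.finrank F (line (α := α) w ⊓ (line (α := α) w).map (g : Module.End F VV) : Submodule F VV) →
      NonRoot M := by
    intro m
    induction m with
    | zero =>
      intro g hg hne _ hm
      refine absurd ?_ hne
      have hle := Submodule.finrank_mono (inf_le_left : line (α := α) w ⊓ (line (α := α) w).map (g : Module.End F VV) ≤ _)
      have h1 := Submodule.eq_of_le_of_finrank_le (inf_le_left :
        line (α := α) w ⊓ (line (α := α) w).map (g : Module.End F VV) ≤ _) (by rw [finrank_line hw]; omega)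
      exact (Submodule.eq_of_le_of_finrank_le (inf_eq_left.1 h1) (by rw [finrank_line hw, finrank_map_line g hw])).symm
    | succ m ih =>
      intro g hg hne h1 hm
      rcases hM.bigger_or_nonRoot hg hw hne rfl h1 with ⟨g', hg', hne', hk⟩ | hN
      · exact ih g' hg' hne' (by omega) (by omega)
      · exact hN
  refine key (Fintype.card α) g hg hne ?_ (by omega)
  by_contra hlt
  exact hk0 (Submodule.finrank_eq_zero.1 (by omega))

/-- Outside the stabiliser of the factorisation the group has all elementary transvections. -/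
theorem TExt.all_elem [Fintype F] (hex : 3 ≤ Fintype.card α ∨ 3 ≤ Fintype.card F) {g : (Module.End F VV)ˣ}
    (hg : g ∈ M) (hn : ¬ Factor (g : Module.End F VV)) {i j : α} {k l : β} (hne : (i, k) ≠ (j, l)) (c : F) :
    T1 M (Pi.single i 1) (Pi.single k 1) (c • Pi.single j 1) (Pi.single l 1) := by
  have h3 := hM.three_le
  obtain ⟨φ, a, hφa, hφ, ha, h⟩ : HasTv M := hM.hasTv_of_nonRoot hex
    ((hM.touch_or_nonRoot hg hn).elim hM.nonRoot_of_touch id)
  have hall := hM.all_pure hφa hφ ha h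
  by_cases hkl : k = l
  · subst hkl
    have hij : i ≠ j := fun e => hne (by rw [e])
    obtain ⟨m, hm⟩ := Fintype.exists_ne_of_one_lt_card (by omega : 1 < Fintype.card β) k
    have h12 := hM.t1_comm (hall (Pi.single i 1) (Pi.single i 1) (Pi.single k 1) (Pi.single m 1) (by simp [hm.symm]))
      (hall (Pi.single i 1) (c • Pi.single j 1) (Pi.single m 1) (Pi.single k 1) (by simp [hm]))
      (by simp [hm.symm]) (by simp [hm]) (by simp [hij.symm])
    simpa using h12
  · exact hall _ _ _ _ (by simp [hkl])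

end abstract

section matrices

variable {F : Type*} [Field F] {ι : Type} [Fintype ι] [DecidableEq ι] {n₁ n₂ : ℕ}

local notation "WW" => Matrix (Fin n₁) (Fin n₂) F

/-- The coordinates of a tensor decomposition. -/
def coord (e : ι ≃ Fin n₁ × Fin n₂) (P : GL ι F) : (ι → F) ≃ₗ[F] WW :=
  (Matrix.GeneralLinearGroup.toLin (n := ι) (R := F) P⁻¹).toLinearEquiv.trans
    ((LinearEquiv.funCongrLeft F F e.symm).trans (LinearEquiv.curry F F (Fin n₁) (Fin n₂)))

theorem coord_apply (e : ι ≃ Fin n₁ × Fin n₂) (P : GL ι F) (v : ι → F) (i : Fin n₁) (k : Fin n₂) :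
    coord e P v i k = (((P⁻¹ : GL ι F) : Matrix ι ι F) *ᵥ v) (e.symm (i, k)) := rfl

/-- A group of matrices as a group of maps of the tensor space. -/
def coordHom (e : ι ≃ Fin n₁ × Fin n₂) (P : GL ι F) : GL ι F →* (Module.End F WW)ˣ :=
  (Units.map (LinearEquiv.conjAlgEquiv F (coord e P)).toMonoidHom).comp
    (Matrix.GeneralLinearGroup.toLin (n := ι) (R := F)).toMonoidHom

variable (e : ι ≃ Fin n₁ × Fin n₂) (P : GL ι F)

theorem coordHom_coord (g : GL ι F) (v : ι → F) :
    (coordHom e P g : Module.End F WW) (coord e P v) = coord e P ((g : Matrix ι ι F) *ᵥ v) := by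
  show coord e P ((g : Matrix ι ι F) *ᵥ ((coord e P).symm (coord e P v))) = _
  rw [LinearEquiv.symm_apply_apply]

theorem eq_of_coord {g : GL ι F} {f : Matrix ι ι F} (h : ∀ v, coord e P ((g : Matrix ι ι F) *ᵥ v) = coord e P (f *ᵥ v)) :
    (g : Matrix ι ι F) = f :=
  Matrix.ext_of_mulVec_single fun _ => (coord e P).injective (h _)

theorem coord_kron (A : Matrix (Fin n₁) (Fin n₁) F) (B : Matrix (Fin n₂) (Fin n₂) F) (v : ι → F) :
    coord e P (((P : Matrix ι ι F) * (A ⊗ₖ Bᵀ).submatrix e e * ((P⁻¹ : GL ι F) : Matrix ι ι F)) *ᵥ v) =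
      A * coord e P v * B := by
  ext i k
  rw [coord_apply, Matrix.mulVec_mulVec, ← mul_assoc, ← mul_assoc, Units.inv_mul, one_mul, ← Matrix.mulVec_mulVec]
  set x := ((P⁻¹ : GL ι F) : Matrix ι ι F) *ᵥ v with hx
  simp only [Matrix.mul_apply, Matrix.mulVec, dotProduct, Finset.sum_mul]
  rw [← Equiv.sum_comp e.symm, Fintype.sum_prod_type, Finset.sum_comm]
  refine Finset.sum_congr rfl fun a _ => Finset.sum_congr rfl fun b _ => ?_
  simp only [Matrix.submatrix_apply, Equiv.apply_symm_apply, Matrix.kroneckerMap_apply, Matrix.transpose_apply]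
  rw [coord_apply, ← hx]
  ring

/-- A group containing the special part of the stabiliser and one more element contains the special linear group. -/
theorem specialLinear_le_of_tensor [Fintype F] (h1 : 2 ≤ n₁) (h12 : n₁ < n₂) (hex : 3 ≤ n₁ ∨ 3 ≤ Fintype.card F)
    {M : Subgroup (GL ι F)} (hM : Cfsg.Geo.tensorProductSubgroup n₁ n₂ e P ⊓ Cfsg.Geo.specialLinear ι F ≤ M)
    {g : GL ι F} (hg : g ∈ M) (hgn : g ∉ Cfsg.Geo.tensorProductSubgroup n₁ n₂ e P) :
    Cfsg.Geo.specialLinear ι F ≤ M := by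
  have hkron : ∀ (u : GL ι F) (a : GL (Fin n₁) F) (b : GL (Fin n₂) F),
      (u : Matrix ι ι F) = (P : Matrix ι ι F) * ((a : Matrix (Fin n₁) (Fin n₁) F) ⊗ₖ (b : Matrix (Fin n₂) (Fin n₂) F)).submatrix e e *
        ((P⁻¹ : GL ι F) : Matrix ι ι F) → u ∈ Cfsg.Geo.tensorProductSubgroup n₁ n₂ e P := by
    intro u a b hu
    refine ⟨Cfsg.Geo.glReindex e.symm (Matrix.GeneralLinearGroup.mkOfDetNeZero ((a : Matrix (Fin n₁) (Fin n₁) F) ⊗ₖ (b : Matrix (Fin n₂) (Fin n₂) F)) ?_),
      ⟨_, ⟨a, b, rfl⟩, rfl⟩, Units.ext ?_⟩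
    · rw [Matrix.det_kronecker]
      exact mul_ne_zero (pow_ne_zero _ a.det_ne_zero) (pow_ne_zero _ b.det_ne_zero)
    · rw [hu]; rfl
  have hfac : ∀ (A : Matrix (Fin n₁) (Fin n₁) F) (B : Matrix (Fin n₂) (Fin n₂) F), A.det = 1 → B.det = 1 →
      ∃ u ∈ M.map (coordHom e P), ∀ T : WW, (u : Module.End F WW) T = A * T * B := by
    intro A B hA hB
    set K := (P : Matrix ι ι F) * (A ⊗ₖ Bᵀ).submatrix e e * ((P⁻¹ : GL ι F) : Matrix ι ι F) with hK
    have hdet : K.det = 1 := by
      rw [hK, Matrix.det_mul, Matrix.det_mul, Matrix.det_submatrix_equiv_self, Matrix.det_kronecker, hA,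
        Matrix.det_transpose, hB, one_pow, one_pow, one_mul, mul_one, ← Matrix.det_mul, Units.mul_inv, Matrix.det_one]
    let u : GL ι F := Matrix.GeneralLinearGroup.mkOfDetNeZero K (by rw [hdet]; exact one_ne_zero)
    refine ⟨coordHom e P u, Subgroup.mem_map_of_mem _ (hM ⟨?_, (mem_specialLinear_iff _).2 hdet⟩), fun T => ?_⟩
    · exact hkron u (Matrix.GeneralLinearGroup.mkOfDetNeZero A (by rw [hA]; exact one_ne_zero))
        (Matrix.GeneralLinearGroup.mkOfDetNeZero Bᵀ (by rw [Matrix.det_transpose, hB]; exact one_ne_zero)) rfl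
    · obtain ⟨v, rfl⟩ := (coord e P).surjective T
      rw [coordHom_coord]
      exact coord_kron e P A B v
  have hT : TExt (M.map (coordHom e P)) := by
    refine ⟨fun A hA => ?_, fun B hB => ?_, by simpa using h1, by simpa using h12⟩
    · obtain ⟨u, hu, e'⟩ := hfac A 1 hA Matrix.det_one
      exact ⟨u, hu, LinearMap.ext fun T => by rw [e', Matrix.mul_one, mulL_apply]⟩
    · obtain ⟨u, hu, e'⟩ := hfac 1 B Matrix.det_one hB
      exact ⟨u, hu, LinearMap.ext fun T => by rw [e', Matrix.one_mul, mulR_apply]⟩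
  have hn : ¬ Factor (coordHom e P g : Module.End F WW) := by
    rintro ⟨A, B, hAB⟩
    have he : (g : Matrix ι ι F) = (P : Matrix ι ι F) * (A ⊗ₖ Bᵀ).submatrix e e * ((P⁻¹ : GL ι F) : Matrix ι ι F) :=
      eq_of_coord e P fun v => by rw [← coordHom_coord, hAB, coord_kron]
    have hd := g.det_ne_zero
    rw [he, Matrix.det_mul, Matrix.det_mul, Matrix.det_submatrix_equiv_self, Matrix.det_kronecker,
      Matrix.det_transpose] at hd
    have hd' := right_ne_zero_of_mul (left_ne_zero_of_mul hd)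
    refine hgn (hkron g (Matrix.GeneralLinearGroup.mkOfDetNeZero A fun h0 => hd' ?_)
      (Matrix.GeneralLinearGroup.mkOfDetNeZero Bᵀ fun h0 => hd' ?_) he)
    · rw [h0, zero_pow (by simp; omega), zero_mul]
    · rw [Matrix.det_transpose] at h0
      rw [h0, zero_pow (by simp; omega), mul_zero]
  have hle : Cfsg.Geo.specialLinear ι F ≤ M.map (MulAut.conj P⁻¹).toMonoidHom := by
    refine CfsgLib.Maximal.specialLinear_le_of_elem _ fun i j hij c h0 => ?_
    have h := hT.all_elem (by simpa using hex) (Subgroup.mem_map_of_mem _ hg) hn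
      (i := (e i).1) (j := (e j).1) (k := (e i).2) (l := (e j).2) (fun h => hij (e.injective h)) c
    obtain ⟨_, ⟨x, hx, rfl⟩, hxe⟩ := h
    refine ⟨x, hx, Units.ext (Matrix.ext_of_mulVec_single fun m => ?_)⟩
    set y : ι → F := Pi.single m 1
    have h1 := LinearMap.congr_fun hxe (coord e P ((P : Matrix ι ι F) *ᵥ y))
    rw [coordHom_coord] at h1
    rw [tv_mulVec, MulEquiv.coe_toMonoidHom, MulAut.conj_apply, inv_inv, Units.val_mul, Units.val_mul,
      ← Matrix.mulVec_mulVec, ← Matrix.mulVec_mulVec]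
    funext p
    have h2 := congrFun (congrFun h1 (e p).1) (e p).2
    rw [coord_apply, Prod.mk.eta, Equiv.symm_apply_apply] at h2
    rw [h2]
    simp only [LinearMap.add_apply, Module.End.one_apply, LinearMap.smulRight_apply, Matrix.add_apply,
      Matrix.smul_apply, Pi.add_apply, Pi.smul_apply, smul_eq_mul, coord_apply, Prod.mk.eta, Equiv.symm_apply_apply,
      Matrix.mulVec_mulVec, Units.inv_mul, Matrix.one_mulVec, fn_apply, inj_apply, Matrix.vecMulVec_apply,
      Matrix.mulVec_single_one, smul_dotProduct, single_dotProduct, Matrix.col_apply, Pi.single_apply,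
      Prod.mk.injEq, e.symm_apply_apply]
    rcases eq_or_ne p i with rfl | hp
    · simp
    · have : ¬ ((e p).1 = (e i).1 ∧ (e p).2 = (e i).2) := fun hh => hp (e.injective (Prod.ext hh.1 hh.2))
      rcases not_and_or.1 this with h' | h' <;> simp [h', hp]
  intro x hx
  have hx' : P⁻¹ * x * P⁻¹⁻¹ ∈ Cfsg.Geo.specialLinear ι F := by
    unfold Cfsg.Geo.specialLinear at hx ⊢
    exact (MonoidHom.normal_ker _).conj_mem _ hx _
  obtain ⟨y, hy, hye⟩ := hle hx'
  have : y = x := by simpa using hye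
  rwa [← this]

theorem tensor_maximal [Fintype F] (h1 : 2 ≤ n₁) (h12 : n₁ < n₂) (hex : 3 ≤ n₁ ∨ 3 ≤ Fintype.card F) :
    Cfsg.Geo.IsMaximalIn (Cfsg.Geo.specialLinear ι F)
      (Cfsg.Geo.tensorProductSubgroup n₁ n₂ e P ⊓ Cfsg.Geo.specialLinear ι F) := by
  constructor
  · refine lt_of_le_of_ne inf_le_right fun he => ?_
    haveI : Nonempty ι := ⟨e.symm (⟨0, by omega⟩, ⟨0, by omega⟩)⟩
    obtain ⟨i⟩ := (inferInstance : Nonempty ι)
    obtain ⟨j, hj⟩ : ∃ j, j ≠ i := by
      obtain ⟨p, hp⟩ := Fintype.exists_ne_of_one_lt_card (by simp; nlinarith : 1 < Fintype.card (Fin n₁ × Fin n₂)) (e i)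
      exact ⟨e.symm p, fun h => hp (by rw [← h, Equiv.apply_symm_apply])⟩
    have h0 : (Pi.single j (1 : F) : ι → F) ⬝ᵥ Pi.single i 1 = 0 := by simp [hj]
    refine NotMax.tv_not_tensor h1 (by omega) e P (g := tv (Pi.single i 1) (Pi.single j 1) h0) (by simp) (by simp)
      (fun x => tv_mulVec _ _ _ x) ?_
    exact (he.ge (CfsgLib.Maximal.tv_mem_specialLinear _ _ _)).1
  intro M hM hMS
  refine or_iff_not_imp_left.2 fun hne => le_antisymm hMS ?_
  obtain ⟨g, hg, hgn⟩ : ∃ g ∈ M, g ∉ Cfsg.Geo.tensorProductSubgroup n₁ n₂ e P := by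
    by_contra hcon
    push Not at hcon
    exact hne (le_antisymm (fun g hg => ⟨hcon g hg, hMS hg⟩) hM)
  exact specialLinear_le_of_tensor e P h1 h12 hex hM hg hgn

end matrices

end CfsgLib.TensorMax
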