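import Cfsg.Agent.Lib.FieldMax.Transv
import Cfsg.Agent.Lib.FieldMax.Lines
import Cfsg.Agent.Lib.FieldMax.Meet
import Cfsg.Agent.Lib.Maximal.Transvec

/-!
Tensor products of two spaces as spaces of matrices: lines, root elements and the group of a factorisation.
-/

set_option autoImplicit false

namespace CfsgLib.TensorMax

open scoped Matrix
open CfsgLib.FieldMax (Mem map_unit_inj inv_apply_apply apply_inv_apply)

variable {F : Type*} [Field F] {α β : Type} [Fintype α] [Fintype β]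

local notation "VV" => Matrix α β F

/-- The pure tensors with a given second factor. -/
def inj (w : β → F) : (α → F) →ₗ[F] VV where
  toFun u := Matrix.vecMulVec u w
  map_add' u v := Matrix.add_vecMulVec u v w
  map_smul' c u := Matrix.smul_vecMulVec c u w

/-- The line of a vector of the second factor. -/
def line (w : β → F) : Submodule F VV := LinearMap.range (inj (α := α) w)

/-- Contraction with a vector of the second factor. -/
def contr (ψ : β → F) : VV →ₗ[F] (α → F) where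
  toFun T := T *ᵥ ψ
  map_add' S T := Matrix.add_mulVec S T ψ
  map_smul' c T := Matrix.smul_mulVec c T ψ

/-- The root element on the second factor. -/
def root (w ψ : β → F) : Module.End F VV := inj w ∘ₗ contr ψ

/-- Left multiplication. -/
def mulL (A : Matrix α α F) : Module.End F VV where
  toFun T := A * T
  map_add' S T := Matrix.mul_add A S T
  map_smul' c T := Matrix.mul_smul A c T

/-- Right multiplication. -/
def mulR (B : Matrix β β F) : Module.End F VV where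
  toFun T := T * B
  map_add' S T := Matrix.add_mul S T B
  map_smul' c T := Matrix.smul_mul c T B

/-- The group contains the special parts of both factors. -/
structure TExt [DecidableEq α] [DecidableEq β] (M : Subgroup (Module.End F VV)ˣ) : Prop where
  left : ∀ A : Matrix α α F, A.det = 1 → ∃ u ∈ M, (u : Module.End F VV) = mulL A
  right : ∀ B : Matrix β β F, B.det = 1 → ∃ u ∈ M, (u : Module.End F VV) = mulR B
  two_le : 2 ≤ Fintype.card α
  lt : Fintype.card α < Fintype.card β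

theorem inj_apply (w : β → F) (u : α → F) : (inj w u : VV) = Matrix.vecMulVec u w := rfl

theorem contr_apply (ψ : β → F) (T : VV) : contr ψ T = T *ᵥ ψ := rfl

theorem mulL_apply (A : Matrix α α F) (T : VV) : mulL A T = A * T := rfl

theorem mulR_apply (B : Matrix β β F) (T : VV) : mulR B T = T * B := rfl

theorem contr_inj (w ψ : β → F) (u : α → F) : (inj w u : VV) *ᵥ ψ = (w ⬝ᵥ ψ) • u := by
  rw [inj_apply, Matrix.vecMulVec_mulVec, op_smul_eq_smul]

theorem root_apply (w ψ : β → F) (T : VV) : root w ψ T = inj w (T *ᵥ ψ) := rfl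

theorem mem_line {w : β → F} {T : VV} : T ∈ line (α := α) w ↔ ∃ u, inj w u = T := Iff.rfl

theorem inj_mem_line (w : β → F) (u : α → F) : (inj w u : VV) ∈ line (α := α) w := ⟨u, rfl⟩

theorem inj_injective {w : β → F} (hw : w ≠ 0) : Function.Injective (inj (α := α) w) := by
  intro u v h
  obtain ⟨j, hj⟩ := Function.ne_iff.1 hw
  funext i
  have := congrFun (congrFun h i) j
  exact mul_right_cancel₀ hj this

theorem finrank_line {w : β → F} (hw : w ≠ 0) : Module.finrank F (line (α := α) w) = Fintype.card α := by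
  rw [line, LinearMap.finrank_range_of_inj (inj_injective hw), Module.finrank_fintype_fun_eq_card]

theorem root_sq {w ψ : β → F} (h : w ⬝ᵥ ψ = 0) : (root w ψ : Module.End F VV) * root w ψ = 0 := by
  refine LinearMap.ext fun T => ?_
  rw [Module.End.mul_apply, root_apply, root_apply, contr_inj, h, zero_smul, map_zero, LinearMap.zero_apply]

theorem contr_surjective {ψ : β → F} (hψ : ψ ≠ 0) (u : α → F) : ∃ T : VV, T *ᵥ ψ = u := by
  classical
  obtain ⟨j, hj⟩ := Function.ne_iff.1 hψ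
  refine ⟨inj ((ψ j)⁻¹ • Pi.single j 1) u, ?_⟩
  rw [contr_inj, smul_dotProduct, single_dotProduct, one_mul, smul_eq_mul, inv_mul_cancel₀ hj, one_smul]

theorem finrank_ker_contr {ψ : β → F} (hψ : ψ ≠ 0) :
    Module.finrank F (LinearMap.ker (contr (α := α) ψ)) + Fintype.card α = Module.finrank F VV := by
  rw [← LinearMap.finrank_range_add_finrank_ker (contr (α := α) ψ),
    LinearMap.range_eq_top.2 (show Function.Surjective (contr (α := α) ψ) from contr_surjective hψ), finrank_top, Module.finrank_fintype_fun_eq_card, add_comm]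

theorem eq_sum_rows [DecidableEq α] (T : VV) : T = ∑ i, inj (T i) (Pi.single i 1) := by
  ext i j
  simp [Matrix.sum_apply, inj_apply, Matrix.vecMulVec_apply, Pi.single_apply]

/-- A map killing the kernel of a contraction factors through it. -/
theorem factor_contr {X : Type*} [AddCommGroup X] [Module F X] (f : VV →ₗ[F] X) (ψ : β → F) (w₀ : β → F)
    (hw₀ : w₀ ⬝ᵥ ψ = 1) (h : ∀ w : β → F, w ⬝ᵥ ψ = 0 → ∀ u, f (inj w u) = 0) (T : VV) :
    f T = f (inj w₀ (T *ᵥ ψ)) := by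
  classical
  have hS : (T - inj w₀ (T *ᵥ ψ)) *ᵥ ψ = 0 := by rw [Matrix.sub_mulVec, contr_inj, hw₀, one_smul, sub_self]
  rw [← sub_eq_zero, ← map_sub, eq_sum_rows (T - inj w₀ (T *ᵥ ψ)), map_sum]
  exact Finset.sum_eq_zero fun i _ => h _ (congrFun hS i) _

theorem exists_dot_one {v : β → F} (h : v ≠ 0) : ∃ φ : β → F, v ⬝ᵥ φ = 1 := by
  classical
  obtain ⟨j, hj⟩ := Function.ne_iff.1 h
  exact ⟨(v j)⁻¹ • Pi.single j 1, by rw [dotProduct_smul, dotProduct_single, mul_one, smul_eq_mul, inv_mul_cancel₀ hj]⟩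

/-- A functional killing fewer vectors than the dimension, non-zero. -/
theorem exists_perp {k : ℕ} (v : Fin k → β → F) (hk : k < Fintype.card β) :
    ∃ φ : β → F, φ ≠ 0 ∧ ∀ i, v i ⬝ᵥ φ = 0 := by
  classical
  obtain ⟨φ, hφ, hφ0⟩ := (LinearMap.ker (Matrix.mulVecLin (Matrix.of v))).exists_mem_ne_zero_of_ne_bot fun e => by
    have := LinearMap.finrank_le_finrank_of_injective (LinearMap.ker_eq_bot.1 e)
    simp [Module.finrank_fintype_fun_eq_card] at this
    omega
  exact ⟨φ, hφ0, fun i => congrFun (LinearMap.mem_ker.1 hφ) i⟩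

theorem exists_ann_dot [DecidableEq β] {v w : β → F} (h : v ∉ F ∙ w) : ∃ φ : β → F, w ⬝ᵥ φ = 0 ∧ v ⬝ᵥ φ = 1 := by
  obtain ⟨φ, hφ, hv⟩ := CfsgLib.Maximal.exists_ann (F ∙ w) v h
  exact ⟨φ, by rw [dotProduct_comm]; exact hφ w (Submodule.mem_span_singleton_self w), by rwa [dotProduct_comm]⟩

namespace TExt

variable [DecidableEq α] [DecidableEq β] {M : Subgroup (Module.End F (Matrix α β F))ˣ} (hM : TExt M)

include hM

theorem three_le : 3 ≤ Fintype.card β := by have := hM.two_le; have := hM.lt; omega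

theorem mem_root {w ψ : β → F} (h : w ⬝ᵥ ψ = 0) : Mem M (root w ψ) := by
  obtain ⟨u, hu, e⟩ := hM.right (1 + Matrix.vecMulVec ψ w) (by
    rw [Matrix.vecMulVec_eq Unit, Matrix.det_one_add_replicateCol_mul_replicateRow, h, add_zero])
  refine ⟨u, hu, LinearMap.ext fun T => ?_⟩
  rw [e, mulR_apply, Matrix.mul_add, Matrix.mul_one, LinearMap.add_apply, Module.End.one_apply, root_apply, inj_apply,
    Matrix.mul_vecMulVec]

/-- Right multiplications from the group, with their effect on lines and contractions. -/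
theorem exists_right {B : Matrix β β F} (hB : B.det = 1) : ∃ u ∈ M, (u : Module.End F VV) = mulR B ∧
    ∀ w v, (u : Module.End F VV) (inj w v) = inj (w ᵥ* B) v := by
  obtain ⟨u, hu, e⟩ := hM.right B hB
  exact ⟨u, hu, e, fun w v => by rw [e, mulR_apply, inj_apply, inj_apply, Matrix.vecMulVec_mul]⟩

end TExt

/-- Elements of determinant one moving a vector. -/
theorem exists_det_one_move [DecidableEq β] (hβ : 2 ≤ Fintype.card β) {w w' : β → F} (hw : w ≠ 0) (hw' : w' ≠ 0) :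
    ∃ B : Matrix β β F, B.det = 1 ∧ w ᵥ* B = w' := by
  have key : ∀ {w w' : β → F}, w ≠ 0 → w' ∉ F ∙ w → ∃ B : Matrix β β F, B.det = 1 ∧ w ᵥ* B = w' := by
    intro w w' hw h
    obtain ⟨φ, h1, h2⟩ : ∃ φ : β → F, (w' - w) ⬝ᵥ φ = 0 ∧ w ⬝ᵥ φ = 1 := exists_ann_dot fun hm => by
      obtain ⟨s, hs⟩ := Submodule.mem_span_singleton.1 hm
      have hs0 : s ≠ 0 := fun e => hw (by rw [← hs, e, zero_smul])
      refine h (Submodule.mem_span_singleton.2 ⟨(1 + s) / s, ?_⟩)
      calc ((1 + s) / s) • w = s⁻¹ • (w + s • w) := by rw [div_eq_inv_mul, mul_smul, add_smul, one_smul]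
        _ = w' := by
          rw [smul_add]
          conv_lhs => arg 1; rw [← hs]
          rw [inv_smul_smul₀ hs0, inv_smul_smul₀ hs0, sub_add_cancel]
    refine ⟨1 + Matrix.vecMulVec φ (w' - w), ?_, ?_⟩
    · rw [Matrix.vecMulVec_eq Unit, Matrix.det_one_add_replicateCol_mul_replicateRow, h1, add_zero]
    · rw [Matrix.vecMul_add, Matrix.vecMul_one, Matrix.vecMul_vecMulVec, h2, one_smul, add_sub_cancel]
  by_cases h : w' ∈ F ∙ w
  · obtain ⟨c, hc⟩ : ∃ c, c ∉ F ∙ w := by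
      by_contra hcon
      push Not at hcon
      have h1 := finrank_span_singleton (K := F) hw
      rw [show F ∙ w = ⊤ from eq_top_iff.2 fun v _ => hcon v, finrank_top, Module.finrank_fintype_fun_eq_card] at h1
      omega
    have hc0 : c ≠ 0 := fun e => hc (e ▸ zero_mem _)
    have hcw' : w' ∉ F ∙ c := fun hm => by
      obtain ⟨s, hs⟩ := Submodule.mem_span_singleton.1 hm
      have hs0 : s ≠ 0 := fun e => hw' (by rw [← hs, e, zero_smul])
      exact hc (by rw [← inv_smul_smul₀ hs0 c, hs]; exact Submodule.smul_mem _ _ h)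
    obtain ⟨B, hB, eB⟩ := key hw hc
    obtain ⟨C, hC, eC⟩ := key hc0 hcw'
    exact ⟨B * C, by rw [Matrix.det_mul, hB, hC, one_mul], by rw [← Matrix.vecMul_vecMul, eB, eC]⟩
  · exact key hw h

/-- Elements of determinant one moving an orthogonal pair. -/
theorem exists_det_one_pair [DecidableEq β] (hβ : 3 ≤ Fintype.card β) {w ψ w' ψ' : β → F} (hw : w ≠ 0) (hψ : ψ ≠ 0)
    (h : w ⬝ᵥ ψ = 0) (hw' : w' ≠ 0) (hψ' : ψ' ≠ 0) (h' : w' ⬝ᵥ ψ' = 0) :
    ∃ B : Matrix β β F, B.det = 1 ∧ w ᵥ* B = w' ∧ B *ᵥ ψ' = ψ := by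
  obtain ⟨B, hB, eB⟩ := exists_det_one_move (by omega) hw hw'
  set ψ₁ := B *ᵥ ψ' with hψ₁
  have hψ₁0 : ψ₁ ≠ 0 := fun e => hψ' (Matrix.mulVec_injective_of_isUnit
    ((Matrix.isUnit_iff_isUnit_det B).2 (by rw [hB]; exact isUnit_one)) (e.trans (Matrix.mulVec_zero _).symm))
  have hwψ₁ : w ⬝ᵥ ψ₁ = 0 := by rw [hψ₁, Matrix.dotProduct_mulVec, eB, h']
  -- fix `w` and move the functional
  have key : ∀ {ψ₁ ψ₂ : β → F}, ψ₁ ≠ 0 → w ⬝ᵥ ψ₁ = 0 → w ⬝ᵥ ψ₂ = 0 → ψ₂ ∉ F ∙ ψ₁ →
      ∃ C : Matrix β β F, C.det = 1 ∧ w ᵥ* C = w ∧ C *ᵥ ψ₁ = ψ₂ := by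
    intro ψ₁ ψ₂ h0 h1 h2 hn
    obtain ⟨x, hx1, hx2⟩ : ∃ x : β → F, (ψ₂ - ψ₁) ⬝ᵥ x = 0 ∧ ψ₁ ⬝ᵥ x = 1 := exists_ann_dot fun hm => by
      obtain ⟨s, hs⟩ := Submodule.mem_span_singleton.1 hm
      have hs0 : s ≠ 0 := fun e => h0 (by rw [← hs, e, zero_smul])
      refine hn (Submodule.mem_span_singleton.2 ⟨(1 + s) / s, ?_⟩)
      calc ((1 + s) / s) • ψ₁ = s⁻¹ • (ψ₁ + s • ψ₁) := by rw [div_eq_inv_mul, mul_smul, add_smul, one_smul]
        _ = ψ₂ := by
          rw [smul_add]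
          conv_lhs => arg 1; rw [← hs]
          rw [inv_smul_smul₀ hs0, inv_smul_smul₀ hs0, sub_add_cancel]
    refine ⟨1 + Matrix.vecMulVec (ψ₂ - ψ₁) x, ?_, ?_, ?_⟩
    · rw [Matrix.vecMulVec_eq Unit, Matrix.det_one_add_replicateCol_mul_replicateRow, dotProduct_comm, hx1, add_zero]
    · rw [Matrix.vecMul_add, Matrix.vecMul_one, Matrix.vecMul_vecMulVec, dotProduct_sub, h2, h1, sub_self, zero_smul,
        add_zero]
    · rw [Matrix.add_mulVec, Matrix.one_mulVec, Matrix.vecMulVec_mulVec, op_smul_eq_smul, dotProduct_comm x, hx2,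
        one_smul, add_sub_cancel]
  obtain ⟨C, hC, hwC, hψC⟩ : ∃ C : Matrix β β F, C.det = 1 ∧ w ᵥ* C = w ∧ C *ᵥ ψ₁ = ψ := by
    by_cases hm : ψ ∈ F ∙ ψ₁
    · obtain ⟨φ, hφ0, hφ, hφn⟩ : ∃ φ : β → F, φ ≠ 0 ∧ w ⬝ᵥ φ = 0 ∧ φ ∉ F ∙ ψ₁ := by
        obtain ⟨x, hx⟩ := exists_dot_one hψ₁0
        obtain ⟨φ, hφ0, hφ⟩ := exists_perp ![w, x] (by omega)
        refine ⟨φ, hφ0, hφ 0, fun hm' => ?_⟩
        obtain ⟨s, hs⟩ := Submodule.mem_span_singleton.1 hm'
        have := hφ 1
        rw [← hs] at this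
        simp [dotProduct_comm x, hx] at this
        exact hφ0 (by rw [← hs, this, zero_smul])
      have hψφ : ψ ∉ F ∙ φ := fun hm' => by
        obtain ⟨s, hs⟩ := Submodule.mem_span_singleton.1 hm'
        have hs0 : s ≠ 0 := fun e => hψ (by rw [← hs, e, zero_smul])
        exact hφn (by rw [← inv_smul_smul₀ hs0 φ, hs]; exact Submodule.smul_mem _ _ hm)
      obtain ⟨C, hC, e1, e2⟩ := key hψ₁0 hwψ₁ hφ hφn
      obtain ⟨D, hD, e3, e4⟩ := key hφ0 hφ h hψφ
      exact ⟨D * C, by rw [Matrix.det_mul, hD, hC, one_mul], by rw [← Matrix.vecMul_vecMul, e3, e1],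
        by rw [← Matrix.mulVec_mulVec, e2, e4]⟩
    · exact key hψ₁0 hwψ₁ h hm
  exact ⟨C * B, by rw [Matrix.det_mul, hB, hC, one_mul], by rw [← Matrix.vecMul_vecMul, hwC, eB],
    by rw [← Matrix.mulVec_mulVec, ← hψ₁, hψC]⟩

end CfsgLib.TensorMax
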