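import Cfsg.Agent.Lib.TensorMax.Transv

/-!
Outside the stabiliser of the factorisation the lines either touch or give a radical element outside the root group.
-/

set_option autoImplicit false

namespace CfsgLib.TensorMax

open scoped Matrix
open CfsgLib.FieldMax (Mem map_unit_inj apply_inv_apply inv_apply_apply)

variable {F : Type*} [Field F] {α β : Type} [Fintype α] [Fintype β] [DecidableEq α] [DecidableEq β]

local notation "VV" => Matrix α β F

/-- The map respects the factorisation. -/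
def Factor (g : Module.End F (Matrix α β F)) : Prop :=
  ∃ (A : Matrix α α F) (B : Matrix β β F), ∀ T, g T = A * T * B

/-- Two lines of the orbit touch. -/
def Touch (M : Subgroup (Module.End F (Matrix α β F))ˣ) : Prop :=
  ∃ g ∈ M, ∃ w : β → F, w ≠ 0 ∧ (line (α := α) w).map (g : Module.End F (Matrix α β F)) ≠ line w ∧
    line (α := α) w ⊓ (line (α := α) w).map (g : Module.End F (Matrix α β F)) ≠ ⊥

theorem finrank_map_line (g : (Module.End F (Matrix α β F))ˣ) {w : β → F} (hw : w ≠ 0) :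
    Module.finrank F ((line (α := α) w).map (g : Module.End F VV)) = Fintype.card α := by
  rw [← (Submodule.equivMapOfInjective _ (map_unit_inj g) _).finrank_eq, finrank_line hw]

theorem map_line_eq (g : (Module.End F (Matrix α β F))ˣ) {w w' : β → F} (hw : w ≠ 0) (hw' : w' ≠ 0)
    (h : (line (α := α) w).map (g : Module.End F VV) ≤ line w') :
    (line (α := α) w).map (g : Module.End F VV) = line w' :=
  Submodule.eq_of_le_of_finrank_eq h (by rw [finrank_map_line g hw, finrank_line hw'])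

theorem le_line_of_rows {w : β → F} {S : VV} (h : ∀ i, S i ∈ F ∙ w) : S ∈ line (α := α) w := by
  choose c hc using fun i => Submodule.mem_span_singleton.1 (h i)
  refine ⟨c, ?_⟩
  ext i j
  rw [← hc i]; rfl

theorem line_le_line {w w' : β → F} (h : w ∈ F ∙ w') : line (α := α) w ≤ line w' := by
  rintro _ ⟨u, rfl⟩
  obtain ⟨c, rfl⟩ := Submodule.mem_span_singleton.1 h
  exact ⟨c • u, by rw [map_smul]; ext i j; simp [inj_apply, Matrix.vecMulVec_apply, mul_left_comm]⟩

/-- A map sending lines into lines respects the factorisation. -/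
theorem factor_of_lines (hα : 0 < Fintype.card α) (g : (Module.End F (Matrix α β F))ˣ)
    (h : ∀ w : β → F, w ≠ 0 → ∃ w', w' ≠ 0 ∧ (line (α := α) w).map (g : Module.End F VV) ≤ line w') :
    Factor (g : Module.End F VV) := by
  rcases isEmpty_or_nonempty β with hβ | ⟨⟨j₀⟩⟩
  · exact ⟨1, 1, fun T => by ext i j; exact isEmptyElim j⟩
  obtain ⟨i₀⟩ : Nonempty α := Fintype.card_pos_iff.1 hα
  choose b hb0 hb using fun j : β => h (Pi.single j 1) (by simp)
  have hA : ∀ j u, ∃ v, inj (b j) v = (g : Module.End F VV) (inj (Pi.single j 1) u) := fun j u =>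
    hb j (Submodule.mem_map_of_mem (inj_mem_line _ u))
  choose φ hφ using fun j => exists_dot_one (hb0 j)
  let A : β → (α → F) →ₗ[F] (α → F) := fun j => contr (φ j) ∘ₗ (g : Module.End F VV) ∘ₗ inj (Pi.single j 1)
  have hAj : ∀ j u, (g : Module.End F VV) (inj (Pi.single j 1) u) = inj (b j) (A j u) := fun j u => by
    obtain ⟨v, hv⟩ := hA j u
    simp only [A, LinearMap.comp_apply, ← hv, contr_apply, contr_inj, hφ, one_smul]
  have hscal : ∀ j, ∃ c : F, ∀ u, A j u = c • A j₀ u := by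
    intro j
    rcases eq_or_ne j j₀ with rfl | hj
    · exact ⟨1, fun u => (one_smul _ _).symm⟩
    have hind : ∀ {p q : β}, p ≠ q → b p ∉ F ∙ b q := by
      intro p q hpq hm
      have h1 := map_line_eq g (w := Pi.single q 1) (by simp) (hb0 q) (hb q)
      have h2 : (line (α := α) (Pi.single p (1 : F))).map (g : Module.End F VV) ≤
          (line (α := α) (Pi.single q (1 : F))).map (g : Module.End F VV) := by
        rw [h1]; exact (hb p).trans (line_le_line hm)
      obtain ⟨_, ⟨v, rfl⟩, hv⟩ := h2 (Submodule.mem_map_of_mem (inj_mem_line (Pi.single p 1) (Pi.single i₀ (1 : F))))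
      have h3 := congrFun (congrFun (map_unit_inj g hv) i₀) p
      simp [inj_apply, Matrix.vecMulVec_apply, hpq] at h3
    obtain ⟨φ₁, h10, h11⟩ := exists_ann_dot (hind hj)
    obtain ⟨φ₂, h20, h21⟩ := exists_ann_dot (hind (Ne.symm hj))
    obtain ⟨b', hb'0, hb'⟩ := h (Pi.single j 1 + Pi.single j₀ 1) (fun e => by
      have := congrFun e j; simp [hj] at this)
    have hsum : ∀ u, ∃ v, inj b' v = inj (b j) (A j u) + inj (b j₀) (A j₀ u) := fun u => by
      obtain ⟨v, hv⟩ := hb' (Submodule.mem_map_of_mem (inj_mem_line (α := α) _ u))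
      refine ⟨v, hv.trans ?_⟩
      rw [← hAj, ← hAj, ← map_add]
      congr 1
      ext i k; simp [inj_apply, Matrix.vecMulVec_apply, mul_add]
    by_cases h2 : b' ⬝ᵥ φ₂ = 0
    · exfalso
      obtain ⟨v, hv⟩ := hsum (Pi.single i₀ 1)
      have := congrArg (fun T : VV => T *ᵥ φ₂) hv
      simp only [Matrix.add_mulVec, contr_inj, h2, h20, h21, zero_smul, one_smul, zero_add] at this
      have h3 := hAj j₀ (Pi.single i₀ 1)
      rw [← this, map_zero] at h3
      have h4 := congrFun (congrFun (map_unit_inj g (h3.trans (map_zero _).symm)) i₀) j₀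
      simp [inj_apply, Matrix.vecMulVec_apply] at h4
    refine ⟨(b' ⬝ᵥ φ₁) / (b' ⬝ᵥ φ₂), fun u => ?_⟩
    obtain ⟨v, hv⟩ := hsum u
    have e1 := congrArg (fun T : VV => T *ᵥ φ₁) hv
    have e2 := congrArg (fun T : VV => T *ᵥ φ₂) hv
    simp only [Matrix.add_mulVec, contr_inj, h10, h11, h20, h21, zero_smul, one_smul, zero_add, add_zero] at e1 e2
    rw [← e1, ← e2, smul_smul, div_mul_cancel₀ _ h2]
  choose c hc using hscal
  refine ⟨LinearMap.toMatrix' (A j₀), Matrix.of fun j => c j • b j, fun T => ?_⟩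
  have hT : T = ∑ j, inj (Pi.single j 1) (fun i => T i j) := by
    ext i j; simp [Matrix.sum_apply, inj_apply, Matrix.vecMulVec_apply, Pi.single_apply]
  conv_lhs => rw [hT, map_sum]
  rw [Finset.sum_congr rfl fun j _ => (hAj j _).trans (congrArg (inj (b j)) (hc j _))]
  ext i k
  rw [Matrix.sum_apply, Matrix.mul_apply]
  refine Finset.sum_congr rfl fun j _ => ?_
  rw [map_smul, Matrix.smul_apply, inj_apply, Matrix.vecMulVec_apply, Matrix.of_apply, Pi.smul_apply, smul_eq_mul,
    smul_eq_mul, ← LinearMap.toMatrix'_mulVec (A j₀)]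
  show _ = (LinearMap.toMatrix' (A j₀) * T) i j * _
  rw [Matrix.mul_apply]
  simp only [Matrix.mulVec, dotProduct]
  ring

namespace TExt

variable {M : Subgroup (Module.End F (Matrix α β F))ˣ} (hM : TExt M)

include hM

/-- The dichotomy. -/
theorem touch_or_nonRoot {g : (Module.End F VV)ˣ} (hg : g ∈ M) (hn : ¬ Factor (g : Module.End F VV)) :
    Touch M ∨ NonRoot M := by
  have h3 := hM.three_le
  have hα : 0 < Fintype.card α := by have := hM.two_le; omega
  obtain ⟨w₀, hw₀, hbad⟩ : ∃ w₀ : β → F, w₀ ≠ 0 ∧ ∀ w', w' ≠ 0 → ¬ (line (α := α) w₀).map (g : Module.End F VV) ≤ line w' := by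
    by_contra hcon
    push Not at hcon
    exact hn (factor_of_lines hα g hcon)
  set L := (line (α := α) w₀).map (g : Module.End F VV)
  have hLrow : ∀ w', w' ≠ 0 → ∃ S ∈ L, ∃ i, S i ∉ F ∙ w' := fun w' hw' => by
    by_contra hcon
    push Not at hcon
    exact hbad w' hw' fun S hS => le_line_of_rows (hcon S hS)
  obtain ⟨ψ₀, hψ₀, h0, hgood⟩ : ∃ ψ₀ : β → F, ψ₀ ≠ 0 ∧ w₀ ⬝ᵥ ψ₀ = 0 ∧ ∀ ψ : β → F, ψ ≠ 0 →
      (LinearMap.ker (contr (α := α) ψ₀)).map (g : Module.End F VV) ≠ LinearMap.ker (contr ψ) := by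
    by_contra hcon
    push Not at hcon
    obtain ⟨i₀⟩ : Nonempty α := Fintype.card_pos_iff.1 hα
    obtain ⟨T, hT, i, hTi⟩ : ∃ T ∈ L, ∃ i, T i ≠ 0 := by
      obtain ⟨j, hj⟩ := Function.ne_iff.1 hw₀
      refine ⟨_, Submodule.mem_map_of_mem (inj_mem_line w₀ (Pi.single i₀ 1)), ?_⟩
      by_contra hz
      push Not at hz
      have := map_unit_inj g ((funext hz : (g : Module.End F VV) (inj w₀ (Pi.single i₀ 1)) = 0).trans (map_zero _).symm)
      exact hj (by simpa [inj_apply, Matrix.vecMulVec_apply] using congrFun (congrFun this i₀) j)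
    have hle : line (α := α) (T i) ≤ L := by
      rintro _ ⟨u, rfl⟩
      refine ⟨((g⁻¹ : (Module.End F VV)ˣ) : Module.End F VV) (inj (T i) u), le_line_of_rows fun k => ?_, apply_inv_apply g _⟩
      by_contra hk
      obtain ⟨φ, hφw, hφk⟩ := exists_ann_dot hk
      obtain ⟨ψ, hψ, he⟩ := hcon φ (fun e => by simp [e] at hφk) hφw
      have hTψ : T *ᵥ ψ = 0 := by
        obtain ⟨_, ⟨v, rfl⟩, rfl⟩ := hT
        have : (g : Module.End F VV) (inj w₀ v) ∈ LinearMap.ker (contr (α := α) ψ) :=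
          he ▸ Submodule.mem_map_of_mem (LinearMap.mem_ker.2 (by rw [contr_apply, contr_inj, hφw, zero_smul]))
        exact LinearMap.mem_ker.1 this
      have hmem : inj (T i) u ∈ LinearMap.ker (contr (α := α) ψ) := by
        rw [LinearMap.mem_ker, contr_apply, contr_inj, show T i ⬝ᵥ ψ = 0 from congrFun hTψ i, zero_smul]
      rw [← he] at hmem
      obtain ⟨S, hS, hSe⟩ := hmem
      rw [← hSe, inv_apply_apply] at hφk
      have : S k ⬝ᵥ φ = 0 := congrFun (LinearMap.mem_ker.1 hS) k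
      rw [this] at hφk
      exact zero_ne_one hφk
    exact hbad (T i) hTi (le_of_eq (Submodule.eq_of_le_of_finrank_eq hle
      (by rw [finrank_line hTi, finrank_map_line g hw₀])).symm)
  set gi := ((g⁻¹ : (Module.End F VV)ˣ) : Module.End F VV) with hgi
  set C : Module.End F VV := (g : Module.End F VV) * root w₀ ψ₀ * gi
  have hC : Mem M C := (hM.mem_root h0).conj hg
  have hCv : ∀ T, C T = (g : Module.End F VV) (inj w₀ (gi T *ᵥ ψ₀)) := fun T => rfl
  have hCL : ∀ T, C T ∈ L := fun T => Submodule.mem_map_of_mem (inj_mem_line _ _)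
  have hCker : ∀ T, C T = 0 ↔ T ∈ (LinearMap.ker (contr (α := α) ψ₀)).map (g : Module.End F VV) := fun T => by
    constructor
    · intro e
      refine ⟨gi T, LinearMap.mem_ker.2 (inj_injective hw₀ (map_unit_inj g ?_)), apply_inv_apply g T⟩
      rw [contr_apply, ← hCv, e]; simp
    · rintro ⟨S, hS, rfl⟩
      rw [hCv, hgi, inv_apply_apply, show S *ᵥ ψ₀ = 0 from LinearMap.mem_ker.1 hS, map_zero, map_zero]
  obtain ⟨i₀⟩ : Nonempty α := Fintype.card_pos_iff.1 hα
  set u₀ : α → F := Pi.single i₀ 1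
  have hu₀ : u₀ ≠ 0 := by simp [u₀]
  obtain ⟨w₁, hw₁, hu⟩ : ∃ w₁ : β → F, w₁ ≠ 0 ∧ C (inj w₁ u₀) = 0 := by
    let f : (β → F) →ₗ[F] L :=
      { toFun := fun w => ⟨C (inj w u₀), hCL _⟩
        map_add' := fun w w' => Subtype.ext (by
          show C _ = C _ + C _
          rw [← map_add]; congr 1; ext i j; simp [inj_apply, Matrix.vecMulVec_apply, mul_add])
        map_smul' := fun c w => Subtype.ext (by
          show C _ = c • C _
          rw [← map_smul]; congr 1; ext i j; simp [inj_apply, Matrix.vecMulVec_apply, mul_left_comm]) }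
    obtain ⟨w, hw, hw0⟩ := (LinearMap.ker f).exists_mem_ne_zero_of_ne_bot fun e => by
      have := LinearMap.finrank_le_finrank_of_injective (LinearMap.ker_eq_bot.1 e)
      rw [finrank_map_line g hw₀, Module.finrank_fintype_fun_eq_card] at this
      have := hM.lt
      omega
    exact ⟨w, hw0, congrArg Subtype.val (LinearMap.mem_ker.1 hw)⟩
  have hu0 : (inj w₁ u₀ : VV) ≠ 0 := fun e => hu₀ (inj_injective hw₁ (e.trans (map_zero _).symm))
  by_cases hin : ∀ v, C (inj w₁ v) ∈ line (α := α) w₁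
  swap
  · -- the root element moves the line
    push Not at hin
    obtain ⟨v, hv⟩ := hin
    obtain ⟨y, hy, e⟩ := hC
    refine Or.inl ⟨y, hy, w₁, hw₁, fun he => hv ?_, fun he => hu0 ?_⟩
    · have := Submodule.sub_mem _ (he ▸ Submodule.mem_map_of_mem (inj_mem_line w₁ v)) (inj_mem_line (α := α) w₁ v)
      simpa [e] using this
    · refine (Submodule.mem_bot F).1 (he ▸ ⟨inj_mem_line w₁ u₀, inj w₁ u₀, inj_mem_line w₁ u₀, ?_⟩)
      simp [e, hu]
  by_cases hzero : ∀ v, C (inj w₁ v) = 0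
  swap
  · -- the image contains a vector of the line
    push Not at hzero
    obtain ⟨v, hv⟩ := hzero
    obtain ⟨B, hB, eB⟩ := exists_det_one_move (by omega : 2 ≤ Fintype.card β) hw₁ hw₀
    obtain ⟨h, hh, -, eh⟩ := hM.exists_right hB
    have hmap : (line (α := α) w₁).map ((g * h : (Module.End F VV)ˣ) : Module.End F VV) = L := by
      ext T
      simp only [L, Submodule.mem_map, line, LinearMap.mem_range]
      constructor
      · rintro ⟨_, ⟨z, rfl⟩, rfl⟩
        exact ⟨_, ⟨z, rfl⟩, by simp [Module.End.mul_apply, eh, eB]⟩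
      · rintro ⟨_, ⟨z, rfl⟩, rfl⟩
        exact ⟨_, ⟨z, rfl⟩, by simp [Module.End.mul_apply, eh, eB]⟩
    refine Or.inl ⟨g * h, mul_mem hg hh, w₁, hw₁, ?_, fun e => hv ?_⟩
    · rw [hmap]; exact fun e => hbad w₁ hw₁ e.le
    · rw [hmap] at e
      exact (Submodule.mem_bot F).1 (e ▸ ⟨hin v, hCL _⟩)
  -- a radical element outside the root group
  refine Or.inr ?_
  obtain ⟨S, hS, i, hSi⟩ := hLrow w₁ hw₁
  obtain ⟨ψ₁, h10, h11⟩ := exists_ann_dot hSi
  refine ⟨w₁, contr ψ₁ ∘ₗ C, hw₁, ?_, fun v => by simp [contr_apply, hzero], ?_⟩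
  · have hC2 : C * C = 0 := LinearMap.ext fun T => by
      rw [Module.End.mul_apply]
      obtain ⟨_, ⟨v, rfl⟩, hv⟩ := hCL T
      rw [← hv, hCv, hgi, inv_apply_apply, contr_inj, h0, zero_smul, map_zero, map_zero]
      rfl
    convert (hM.mem_root h10).commutator hC (root_sq h10) hC2 ?_ ?_ using 1
    · refine LinearMap.ext fun T => ?_
      simp [Module.End.mul_apply, root_apply, contr_apply, hzero]
    · refine LinearMap.ext fun T => ?_
      simp [Module.End.mul_apply, root_apply, hzero]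
    · refine LinearMap.ext fun T => ?_
      simp [Module.End.mul_apply, root_apply, hzero]
  · rintro ⟨ψ, hψ⟩
    have hψ0 : ψ ≠ 0 := fun e => by
      obtain ⟨_, ⟨v, rfl⟩, rfl⟩ := hS
      obtain ⟨T, hT⟩ := contr_surjective hψ₀ v
      have h1 := congrFun (hψ ((g : Module.End F VV) T)) i
      rw [LinearMap.comp_apply, hCv, hgi, inv_apply_apply, hT, e, Matrix.mulVec_zero, contr_apply] at h1
      exact one_ne_zero (h11.symm.trans h1)
    refine hgood ψ hψ0 (Submodule.eq_of_le_of_finrank_eq (fun T hT => LinearMap.mem_ker.2 ?_) ?_)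
    · rw [contr_apply, ← hψ, LinearMap.comp_apply, (hCker T).2 hT, map_zero]
    · rw [← (Submodule.equivMapOfInjective _ (map_unit_inj g) _).finrank_eq]
      have h1 := finrank_ker_contr (α := α) hψ₀
      have h2 := finrank_ker_contr (α := α) hψ0
      omega

/-- An element stabilising a line and acting on it non-trivially, of rank at most the dimension of a line. -/
theorem nonRoot_of_stab {C : Module.End F VV} {x : (Module.End F VV)ˣ} (hx : x ∈ M) (ex : (x : Module.End F VV) = 1 + C)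
    (hC2 : C * C = 0) {w : β → F} (hw : w ≠ 0) (hrank : Module.finrank F (LinearMap.range C) ≤ Fintype.card α)
    (hCw : ∀ u, C (inj w u) ∈ line (α := α) w) {u₀ : α → F} (hu₀ : C (inj w u₀) ≠ 0) : NonRoot M := by
  choose Γ hΓ using hCw
  have hinv : ((x⁻¹ : (Module.End F VV)ˣ) : Module.End F VV) = 1 - C := by
    calc ((x⁻¹ : (Module.End F VV)ˣ) : Module.End F VV)
        = (1 - C) * (x : Module.End F VV) * ((x⁻¹ : (Module.End F VV)ˣ) : Module.End F VV) := by
          rw [ex, mul_add, mul_one, sub_mul, one_mul, hC2, sub_zero, sub_add_cancel, one_mul]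
      _ = 1 - C := by rw [mul_assoc, Units.mul_inv, mul_one]
  let τ : (α → F) →ₗ[F] (α → F) :=
    { toFun := fun u => u + Γ u
      map_add' := fun u v => by
        have : Γ (u + v) = Γ u + Γ v := inj_injective hw (by rw [map_add, hΓ, hΓ, hΓ, map_add, map_add])
        rw [this]; abel
      map_smul' := fun c u => by
        have : Γ (c • u) = c • Γ u := inj_injective hw (by rw [map_smul, hΓ, hΓ, map_smul, map_smul])
        rw [this, smul_add]; rfl }
  have hΓΓ : ∀ u, Γ (Γ u) = 0 := fun u => inj_injective hw (by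
    rw [hΓ, map_zero, hΓ, ← Module.End.mul_apply, hC2]; rfl)
  by_contra hcon
  have hall : ∀ ψ' : β → F, w ⬝ᵥ ψ' = 0 → ∃ ψ'', ∀ T, τ ((T - C T) *ᵥ ψ') = T *ᵥ ψ'' := by
    intro ψ' h
    by_contra hne
    refine hcon ⟨w, τ ∘ₗ contr ψ' ∘ₗ (1 - C), hw, ?_, fun u => ?_, fun ⟨ψ'', h''⟩ => hne ⟨ψ'', fun T => h'' T⟩⟩
    · convert (hM.mem_root h).conj hx using 1
      refine LinearMap.ext fun T => ?_
      rw [hinv, ex]
      simp [Module.End.mul_apply, root_apply, contr_apply, τ, hΓ, Matrix.sub_mulVec]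
    · have e : (inj w u - C (inj w u)) *ᵥ ψ' = 0 := by
        rw [← hΓ, ← map_sub, contr_inj, h, zero_smul]
      simp only [LinearMap.comp_apply, LinearMap.sub_apply, Module.End.one_apply, contr_apply, e, map_zero]
  obtain ⟨hu, hΓu⟩ : u₀ ≠ 0 ∧ Γ u₀ ≠ 0 :=
    ⟨fun e => hu₀ (by rw [e, map_zero, map_zero]), fun e => hu₀ (by rw [← hΓ, e, map_zero])⟩
  let f : (β → F) →ₗ[F] LinearMap.range C :=
    { toFun := fun v => ⟨C (inj v u₀), LinearMap.mem_range_self C _⟩
      map_add' := fun v v' => Subtype.ext (by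
        show C _ = C _ + C _
        rw [← map_add]; congr 1; ext i j; simp [inj_apply, Matrix.vecMulVec_apply, mul_add])
      map_smul' := fun c v => Subtype.ext (by
        show C _ = c • C _
        rw [← map_smul]; congr 1; ext i j; simp [inj_apply, Matrix.vecMulVec_apply, mul_left_comm]) }
  have hf : Function.Injective f := (injective_iff_map_eq_zero f).2 fun v hv => by
    have hv : C (inj v u₀) = 0 := congrArg Subtype.val hv
    have hperp : ∀ ψ', w ⬝ᵥ ψ' = 0 → v ⬝ᵥ ψ' = 0 := fun ψ' h => by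
      obtain ⟨ψ'', h''⟩ := hall ψ' h
      have h1 := h'' (inj v u₀)
      rw [hv, sub_zero, contr_inj, contr_inj, map_smul] at h1
      change (v ⬝ᵥ ψ') • (u₀ + Γ u₀) = _ at h1
      by_contra hne
      have h2 : Γ u₀ = ((v ⬝ᵥ ψ'') / (v ⬝ᵥ ψ') - 1) • u₀ := by
        rw [sub_smul, one_smul, div_eq_inv_mul, mul_smul, ← h1, inv_smul_smul₀ hne, add_sub_cancel_left]
      obtain ⟨k, hk⟩ : ∃ k, k = (v ⬝ᵥ ψ'') / (v ⬝ᵥ ψ') - 1 := ⟨_, rfl⟩
      rw [← hk] at h2
      have h3 : C (inj w (Γ u₀)) = 0 := by rw [← hΓ, hΓΓ, map_zero]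
      rw [h2, map_smul, map_smul, smul_eq_zero, ← hΓ] at h3
      rcases h3 with h3 | h3
      · exact hΓu (by rw [h2, h3, zero_smul])
      · exact hΓu (inj_injective hw (h3.trans (map_zero _).symm))
    have hvw : v ∈ F ∙ w := by
      by_contra hn'
      obtain ⟨φ, hφw, hφv⟩ := exists_ann_dot hn'
      rw [hperp φ hφw] at hφv
      exact zero_ne_one hφv
    obtain ⟨c, rfl⟩ := Submodule.mem_span_singleton.1 hvw
    have h1 : C (inj (c • w) u₀) = c • C (inj w u₀) := by
      rw [← map_smul]; congr 1; ext i j; simp [inj_apply, Matrix.vecMulVec_apply, mul_left_comm]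
    rw [h1, smul_eq_zero] at hv
    rw [hv.resolve_right hu₀, zero_smul]
  have := LinearMap.finrank_le_finrank_of_injective hf
  rw [Module.finrank_fintype_fun_eq_card] at this
  have := hM.lt
  omega

/-- The intersection grows, or the touching lines give a radical element. -/
theorem bigger_or_nonRoot {g : (Module.End F VV)ˣ} (hg : g ∈ M) {w : β → F} (hw : w ≠ 0)
    (hne : (line (α := α) w).map (g : Module.End F VV) ≠ line w) {k : ℕ}
    (hk : Module.finrank F (line (α := α) w ⊓ (line (α := α) w).map (g : Module.End F VV) : Submodule F VV) = k)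
    (hk1 : 1 ≤ k) :
    (∃ g' ∈ M, (line (α := α) w).map (g' : Module.End F VV) ≠ line w ∧
      k + 1 ≤ Module.finrank F (line (α := α) w ⊓ (line (α := α) w).map (g' : Module.End F VV) : Submodule F VV)) ∨
    NonRoot M := by
  set A := line (α := α) w with hA
  set L := A.map (g : Module.End F VV) with hL
  set Z := A ⊓ L with hZ
  have hLr : Module.finrank F L = Fintype.card α := finrank_map_line g hw
  have hAr : Module.finrank F A = Fintype.card α := finrank_line hw
  have hlt : k < Fintype.card α := by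
    by_contra hlt
    apply hne
    have h1 : Z = A := Submodule.eq_of_le_of_finrank_le inf_le_left (by omega)
    have h2 : Z = L := Submodule.eq_of_le_of_finrank_le inf_le_right (by omega)
    exact h2.symm.trans h1
  set gi := ((g⁻¹ : (Module.End F VV)ˣ) : Module.End F VV) with hgi
  by_cases hgrow : ∃ ψ : β → F, ψ ≠ 0 ∧ w ⬝ᵥ ψ = 0 ∧ ∃ y₀ ∈ L, y₀ ∉ Z ∧ root w ψ y₀ ∈ Z ∧ ∃ y ∈ L, root w ψ y ∉ L
  · obtain ⟨ψ, -, hψ, y₀, hy₀, hy₀Z, hr₀, y, hy, hry⟩ := hgrow
    obtain ⟨x, hx, e⟩ := hM.mem_root hψ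
    refine Or.inl ⟨g⁻¹ * x * g, mul_mem (mul_mem (inv_mem hg) hx) hg, fun he => hry ?_, ?_⟩
    · obtain ⟨z, hz, rfl⟩ := hy
      have h1 : ((g⁻¹ * x * g : (Module.End F VV)ˣ) : Module.End F VV) z ∈ A := he ▸ Submodule.mem_map_of_mem hz
      have h2 := Submodule.mem_map_of_mem (f := (g : Module.End F VV)) h1
      simp only [Units.val_mul, Module.End.mul_apply, apply_inv_apply, e, LinearMap.add_apply,
        Module.End.one_apply] at h2
      have h3 := Submodule.sub_mem _ h2 (Submodule.mem_map_of_mem (f := (g : Module.End F VV)) hz)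
      rwa [add_sub_cancel_left] at h3
    · set P := Z ⊔ F ∙ (y₀ + root w ψ y₀) with hP
      have hPr : k + 1 ≤ Module.finrank F P := by
        rw [← hk]
        refine Submodule.finrank_lt_finrank_of_lt (lt_of_le_of_ne le_sup_left fun e' => hy₀Z ?_)
        have : y₀ + root w ψ y₀ ∈ Z := e' ▸ Submodule.mem_sup_right (Submodule.mem_span_singleton_self _)
        simpa using Z.sub_mem this hr₀
      have hle : P.map gi ≤ A ⊓ A.map ((g⁻¹ * x * g : (Module.End F VV)ˣ) : Module.End F VV) := by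
        rw [Submodule.map_le_iff_le_comap, hP, sup_le_iff, Submodule.span_singleton_le_iff_mem]
        have hin : ∀ {p v : VV}, v ∈ L → (x : Module.End F VV) v = p → p ∈ L →
            gi p ∈ A ⊓ A.map ((g⁻¹ * x * g : (Module.End F VV)ˣ) : Module.End F VV) := by
          rintro p v ⟨z, hz, rfl⟩ hp hpL
          obtain ⟨z', hz', rfl⟩ := hpL
          refine ⟨by rwa [hgi, inv_apply_apply], z, hz, ?_⟩
          simp [Module.End.mul_apply, hp, hgi]
        refine ⟨fun v hv => hin hv.2 ?_ hv.2, hin hy₀ (by simp [e]) (L.add_mem hy₀ hr₀.2)⟩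
        obtain ⟨z, rfl⟩ := hv.1
        simp [e, root_apply, contr_inj, hψ]
      refine le_trans ?_ (Submodule.finrank_mono hle)
      rwa [← (Submodule.equivMapOfInjective _ (map_unit_inj g⁻¹) P).finrank_eq]
  refine Or.inr ?_
  push Not at hgrow
  obtain ⟨y₀, hy₀, hy₀Z⟩ : ∃ y ∈ L, y ∉ Z := by
    by_contra hcon
    push Not at hcon
    have := Submodule.finrank_mono (show L ≤ Z from hcon)
    omega
  obtain ⟨ψ, hψ0, hψ, hrL⟩ : ∃ ψ : β → F, ψ ≠ 0 ∧ w ⬝ᵥ ψ = 0 ∧ ∀ y ∈ L, root w ψ y ∈ Z := by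
    -- coordinates of the quotient of the line by the intersection
    obtain ⟨W, hW⟩ := Submodule.exists_isCompl (Z.comap (inj (α := α) w))
    let f : (β → F) →ₗ[F] (W × F) :=
      { toFun := fun ψ => (W.linearProjOfIsCompl _ hW.symm (y₀ *ᵥ ψ), w ⬝ᵥ ψ)
        map_add' := fun ψ ψ' => by simp [Matrix.mulVec_add]
        map_smul' := fun c ψ => by simp [Matrix.mulVec_smul] }
    have hWr : Module.finrank F W + k = Fintype.card α := by
      rw [← Module.finrank_fintype_fun_eq_card F (η := α), ← Submodule.finrank_add_eq_of_isCompl hW.symm, ← hk]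
      congr 1
      have e : (Z.comap (inj (α := α) w)).map (inj w) = Z := Submodule.map_comap_eq_of_le inf_le_left
      have e' := (Submodule.equivMapOfInjective _ (inj_injective hw) (Z.comap (inj (α := α) w))).finrank_eq
      rw [e] at e'
      exact e'.symm
    obtain ⟨ψ, hψ, hψ0⟩ := (LinearMap.ker f).exists_mem_ne_zero_of_ne_bot fun e => by
      have := LinearMap.finrank_le_finrank_of_injective (LinearMap.ker_eq_bot.1 e)
      rw [Module.finrank_prod, Module.finrank_self, Module.finrank_fintype_fun_eq_card] at this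
      have := hM.lt
      omega
    obtain ⟨h1, h2⟩ : W.linearProjOfIsCompl _ hW.symm (y₀ *ᵥ ψ) = 0 ∧ w ⬝ᵥ ψ = 0 := Prod.ext_iff.1 (LinearMap.mem_ker.1 hψ)
    have hr₀ : root w ψ y₀ ∈ Z := by
      have h1' : y₀ *ᵥ ψ ∈ Z.comap (inj (α := α) w) := (Submodule.linearProjOfIsCompl_apply_eq_zero_iff hW.symm).1 h1
      exact h1'
    exact ⟨ψ, hψ0, h2, fun y hy => ⟨inj_mem_line _ _, hgrow ψ hψ0 h2 y₀ hy₀ hy₀Z hr₀ y hy⟩⟩
  obtain ⟨x, hx, ex⟩ := hM.mem_root hψ
  set r : Module.End F VV := root w ψ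
  have hrank : ∀ (h : (Module.End F VV)ˣ) (D : Module.End F VV) (η : β → F),
      D = (h : Module.End F VV) * root w η * ((h⁻¹ : (Module.End F VV)ˣ) : Module.End F VV) →
      Module.finrank F (LinearMap.range D) ≤ Fintype.card α := by
    intro h D η eD
    rw [← finrank_map_line h hw]
    refine Submodule.finrank_mono ?_
    rintro _ ⟨T, rfl⟩
    rw [eD]
    exact Submodule.mem_map_of_mem (inj_mem_line _ _)
  by_cases hr0 : ∃ y ∈ L, r y ≠ 0
  · -- acting on the second line
    obtain ⟨_, ⟨_, ⟨u₀, rfl⟩, rfl⟩, hne0⟩ := hr0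
    set C := gi * r * (g : Module.End F VV) with hC
    refine hM.nonRoot_of_stab (C := C) (x := g⁻¹ * x * g) (mul_mem (mul_mem (inv_mem hg) hx) hg) ?_ ?_ hw
      (hrank g⁻¹ C ψ (by rw [hC, inv_inv])) ?_ (u₀ := u₀) ?_
    · rw [Units.val_mul, Units.val_mul, ex, ← hgi, mul_add, mul_one, add_mul, hgi, Units.inv_mul]
    · refine LinearMap.ext fun T => ?_
      simp only [C, Module.End.mul_apply, hgi, apply_inv_apply]
      rw [← Module.End.mul_apply (f := r) (g := r), root_sq hψ]
      simp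
    · intro u
      obtain ⟨z, hz, he⟩ := (hrL _ (Submodule.mem_map_of_mem (inj_mem_line w u))).2
      show gi (r ((g : Module.End F VV) (inj w u))) ∈ line (α := α) w
      rw [← he, hgi, inv_apply_apply]; exact hz
    · intro e
      exact hne0 (map_unit_inj g⁻¹ ((show gi (r ((g : Module.End F VV) (inj w u₀))) = 0 from e).trans (map_zero _).symm))
  push Not at hr0
  obtain ⟨ψ₀, hψ₀, u, hu⟩ : ∃ ψ₀, w ⬝ᵥ ψ₀ = 0 ∧ ∃ u, gi (inj w u) *ᵥ ψ₀ ≠ 0 := by
    by_contra hcon
    push Not at hcon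
    refine hne (Submodule.eq_of_le_of_finrank_eq (fun T hT => ?_) (hAr.trans hLr.symm)).symm
    obtain ⟨u, rfl⟩ := hT
    refine ⟨gi (inj w u), le_line_of_rows fun i => ?_, apply_inv_apply g _⟩
    by_contra hi
    obtain ⟨φ, hφw, hφi⟩ := exists_ann_dot hi
    exact one_ne_zero (hφi.symm.trans (congrFun (hcon φ hφw u) i))
  set C : Module.End F VV := (g : Module.End F VV) * root w ψ₀ * gi with hC
  have hCmem : Mem M C := (hM.mem_root hψ₀).conj hg
  have hrC : ∀ T, r (C T) = 0 := fun T => hr0 _ (Submodule.mem_map_of_mem (inj_mem_line _ _))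
  have hC2 : C * C = 0 := LinearMap.ext fun T => by
    simp [C, hgi, Module.End.mul_apply, inv_apply_apply, root_apply, contr_inj, hψ₀]
  have hCr := (hM.mem_root hψ).commutator hCmem (root_sq hψ) hC2
    (LinearMap.ext fun T => by simpa [Module.End.mul_apply] using hrC (r T))
    (LinearMap.ext fun T => by simp [Module.End.mul_apply, r, hrC])
  refine ⟨w, -(contr ψ₀ ∘ₗ gi ∘ₗ r ∘ₗ (g : Module.End F VV)), hw, ?_, fun v => ?_, ?_⟩
  · have hr0' : ∀ v, (g : Module.End F VV) (inj w v) *ᵥ ψ = 0 := fun v => inj_injective hw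
      ((hr0 _ (Submodule.mem_map_of_mem (inj_mem_line w v))).trans (map_zero _).symm)
    convert hCr.conj (inv_mem hg) using 1
    refine LinearMap.ext fun T => ?_
    rw [inv_inv]
    simp [Module.End.mul_apply, C, r, hgi, inv_apply_apply, hr0', root_apply, contr_apply]
  · simp [hr0 _ (Submodule.mem_map_of_mem (inj_mem_line w v))]
  rintro ⟨ψ', hψ'⟩
  -- the range of the functional is too small
  obtain ⟨S, hS⟩ := contr_surjective hψ0 u
  have hψ'0 : ψ' ≠ 0 := fun e => hu (by
    have := hψ' (gi S)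
    rw [e, Matrix.mulVec_zero] at this
    simpa [hgi, apply_inv_apply, r, root_apply, hS, contr_apply] using this)
  have hf : Function.Surjective (contr ψ₀ ∘ₗ gi ∘ₗ inj (α := α) w) := fun v => by
    obtain ⟨T, hT⟩ := contr_surjective hψ'0 (-v)
    rw [← hψ'] at hT
    exact ⟨(g : Module.End F VV) T *ᵥ ψ, by simpa [r, root_apply, neg_eq_iff_eq_neg] using hT⟩
  obtain ⟨z, hz, hz0⟩ := Z.exists_mem_ne_zero_of_ne_bot fun e => by rw [e, finrank_bot] at hk; omega
  obtain ⟨⟨u₁, rfl⟩, ⟨z', ⟨u₂, rfl⟩, hz'⟩⟩ := hz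
  suffices u₁ = 0 from hz0 (by rw [this, map_zero])
  refine LinearMap.injective_iff_surjective.2 hf ?_
  rw [map_zero, LinearMap.comp_apply, LinearMap.comp_apply, ← hz', hgi, inv_apply_apply, contr_apply, contr_inj, hψ₀,
    zero_smul]

end TExt

end CfsgLib.TensorMax
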