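import Cfsg.Agent.Lib.TensorMax.Basic

/-!
One transvection gives all, and an element of the radical of a line stabiliser outside the root group gives one.
-/

set_option autoImplicit false

namespace CfsgLib.TensorMax

open scoped Matrix
open CfsgLib.FieldMax (Mem HasTv apply_inv_apply inv_apply_apply)

variable {F : Type*} [Field F] {α β : Type} [Fintype α] [Fintype β] [DecidableEq α] [DecidableEq β]

local notation "VV" => Matrix α β F

/-- The functional of a pure tensor of functionals. -/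
def fn (f : α → F) (ψ : β → F) : Module.Dual F VV := dotProductEquiv F α f ∘ₗ contr ψ

theorem fn_apply (f : α → F) (ψ : β → F) (T : VV) : fn f ψ T = f ⬝ᵥ (T *ᵥ ψ) := rfl

theorem fn_inj (f : α → F) (ψ w : β → F) (u : α → F) : fn f ψ (inj w u : VV) = (w ⬝ᵥ ψ) * f ⬝ᵥ u := by
  rw [fn_apply, contr_inj, dotProduct_smul, smul_eq_mul]

variable {M : Subgroup (Module.End F (Matrix α β F))ˣ}

/-- A pure transvection in the group. -/
def T1 (M : Subgroup (Module.End F (Matrix α β F))ˣ) (u : α → F) (w : β → F) (f : α → F) (ψ : β → F) : Prop :=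
  Mem M ((fn f ψ).smulRight (inj w u))

theorem T1.add_fun {u f f' : α → F} {w ψ : β → F} (h : T1 M u w f ψ) (h' : T1 M u w f' ψ) (h0 : w ⬝ᵥ ψ = 0) :
    T1 M u w (f + f') ψ := by
  unfold T1
  convert h.add h' (CfsgLib.FieldMax.smulRight_sq (by rw [fn_inj, h0, zero_mul]) _) using 1
  refine LinearMap.ext fun T => ?_
  simp [fn_apply, add_dotProduct, add_smul]

theorem T1.of_zero (M : Subgroup (Module.End F (Matrix α β F))ˣ) (u : α → F) (w ψ : β → F) : T1 M u w 0 ψ := by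
  unfold T1
  convert Mem.zero (M := M) using 1
  refine LinearMap.ext fun T => ?_
  simp [fn_apply]

/-- A radical element outside the root group. -/
def NonRoot (M : Subgroup (Module.End F (Matrix α β F))ˣ) : Prop :=
  ∃ (w : β → F) (δ : Matrix α β F →ₗ[F] (α → F)), w ≠ 0 ∧ Mem M (inj w ∘ₗ δ) ∧ (∀ u, δ (inj w u) = 0) ∧
    ¬ ∃ ψ : β → F, ∀ T : Matrix α β F, δ T = T *ᵥ ψ

namespace TExt

variable (hM : TExt M)

include hM

/-- Transport by the two factors. -/
theorem t1_left {u f : α → F} {w ψ : β → F} (h : T1 M u w f ψ) (A A' : Matrix α α F) (hA : A.det = 1)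
    (hAA : A' * A = 1) : T1 M (A *ᵥ u) w (f ᵥ* A') ψ := by
  obtain ⟨g, hg, e⟩ := hM.left A hA
  unfold T1
  convert h.conj hg using 1
  refine LinearMap.ext fun T => ?_
  obtain ⟨S, rfl⟩ : ∃ S, (g : Module.End F VV) S = T := ⟨_, apply_inv_apply g T⟩
  rw [Module.End.mul_apply, Module.End.mul_apply, inv_apply_apply, LinearMap.smulRight_apply,
    LinearMap.smulRight_apply, map_smul, e, mulL_apply, mulL_apply, fn_apply, fn_apply, ← Matrix.mulVec_mulVec,
    ← Matrix.dotProduct_mulVec, Matrix.mulVec_mulVec (M := A') (N := A), hAA, Matrix.one_mulVec, inj_apply, inj_apply,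
    Matrix.mul_vecMulVec]

theorem t1_right {u f : α → F} {w ψ ψ' : β → F} (h : T1 M u w f ψ) (B : Matrix β β F) (hB : B.det = 1)
    (hψ : B *ᵥ ψ' = ψ) : T1 M u (w ᵥ* B) f ψ' := by
  obtain ⟨g, hg, e⟩ := hM.right B hB
  unfold T1
  convert h.conj hg using 1
  refine LinearMap.ext fun T => ?_
  obtain ⟨S, rfl⟩ : ∃ S, (g : Module.End F VV) S = T := ⟨_, apply_inv_apply g T⟩
  rw [Module.End.mul_apply, Module.End.mul_apply, inv_apply_apply, LinearMap.smulRight_apply,
    LinearMap.smulRight_apply, map_smul, e, mulR_apply, mulR_apply, fn_apply, fn_apply, ← Matrix.mulVec_mulVec,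
    hψ, inj_apply, inj_apply, Matrix.vecMulVec_mul]

/-- The commutator of two pure transvections. -/
theorem t1_comm {u f u' f' : α → F} {w ψ w' ψ' : β → F} (h : T1 M u w f ψ) (h' : T1 M u' w' f' ψ')
    (h0 : w ⬝ᵥ ψ = 0) (h0' : w' ⬝ᵥ ψ' = 0) (hz : (w ⬝ᵥ ψ') * f' ⬝ᵥ u = 0) :
    T1 M u w (((w' ⬝ᵥ ψ) * f ⬝ᵥ u') • f') ψ' := by
  have hs : ∀ {φ : Module.Dual F VV} {a : VV} (φ' : Module.Dual F VV) (a' : VV), φ a' = 0 → ∀ T,
      φ.smulRight a ((φ'.smulRight a' : Module.End F VV) T) = 0 := fun φ' a' e T => by simp [e]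
  have hn' : fn f' ψ' (inj w u) = 0 := by rw [fn_inj, hz]
  unfold T1
  convert h.commutator h' (CfsgLib.FieldMax.smulRight_sq (by rw [fn_inj, h0, zero_mul]) _)
    (CfsgLib.FieldMax.smulRight_sq (by rw [fn_inj, h0', zero_mul]) _) ?_ ?_ using 1
  · refine LinearMap.ext fun T => ?_
    simp only [LinearMap.sub_apply, Module.End.mul_apply, LinearMap.smulRight_apply, map_smul, fn_inj, fn_apply,
      hz, smul_dotProduct, dotProduct_smul, contr_inj, smul_eq_mul]
    module
  · refine LinearMap.ext fun T => ?_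
    simp [Module.End.mul_apply, hn']
  · refine LinearMap.ext fun T => ?_
    simp [Module.End.mul_apply, hn']

/-- Centres can be pure. -/
theorem exists_pure {φ : Module.Dual F VV} {a : VV} (hφa : φ a = 0) (hφ : φ ≠ 0) (ha : a ≠ 0)
    (h : Mem M (φ.smulRight a)) :
    ∃ u f w ψ, u ≠ 0 ∧ f ≠ 0 ∧ w ≠ 0 ∧ ψ ≠ 0 ∧ w ⬝ᵥ ψ = 0 ∧ T1 M u w f ψ := by
  have h3 := hM.three_le
  obtain ⟨ψ, hψ0, hψ⟩ : ∃ ψ : β → F, ψ ≠ 0 ∧ a *ᵥ ψ = 0 := by
    obtain ⟨ψ, hψ, hψ0⟩ := (LinearMap.ker (Matrix.mulVecLin a)).exists_mem_ne_zero_of_ne_bot fun e => by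
      have := LinearMap.finrank_le_finrank_of_injective (LinearMap.ker_eq_bot.1 e)
      simp [Module.finrank_fintype_fun_eq_card] at this
      have := hM.lt
      omega
    exact ⟨ψ, hψ0, LinearMap.mem_ker.1 hψ⟩
  obtain ⟨f, hf0, hf⟩ : ∃ f : α → F, f ≠ 0 ∧ Mem M ((fn f ψ).smulRight a) := by
    by_cases hw : ∃ w : β → F, w ⬝ᵥ ψ = 0 ∧ ∃ u, φ (inj w u) ≠ 0
    · obtain ⟨w, hwψ, u, hu⟩ := hw
      obtain ⟨f, hf⟩ := (dotProductEquiv F α).surjective (φ ∘ₗ inj w)
      have hfu : ∀ v, f ⬝ᵥ v = φ (inj w v) := fun v => LinearMap.congr_fun hf v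
      have hra : root w ψ a = 0 := by rw [root_apply, hψ, map_zero]
      refine ⟨f, fun e => hu ?_, ?_⟩
      · rw [← hfu, e, zero_dotProduct]
      convert h.commutator (hM.mem_root hwψ) (CfsgLib.FieldMax.smulRight_sq hφa _) (root_sq hwψ) ?_ ?_ using 1
      · refine LinearMap.ext fun T => ?_
        simp only [LinearMap.sub_apply, Module.End.mul_apply, LinearMap.smulRight_apply, map_smul, hra, smul_zero,
          sub_zero, root_apply, fn_apply, hfu]
      · refine LinearMap.ext fun T => ?_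
        simp [Module.End.mul_apply, hra]
      · refine LinearMap.ext fun T => ?_
        simp [Module.End.mul_apply, hra]
    · push Not at hw
      obtain ⟨w₀, hw₀⟩ := exists_dot_one hψ0
      rw [dotProduct_comm] at hw₀
      obtain ⟨f, hf⟩ := (dotProductEquiv F α).surjective (φ ∘ₗ inj w₀)
      have e : fn f ψ = φ := LinearMap.ext fun T => by
        rw [factor_contr φ ψ w₀ hw₀ hw T, fn_apply]
        exact LinearMap.congr_fun hf _
      refine ⟨f, fun e0 => hφ ?_, e ▸ h⟩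
      rw [← e, e0]
      exact LinearMap.ext fun T => by simp [fn_apply]
  obtain ⟨i, hi⟩ : ∃ i, a i ≠ 0 := by
    by_contra hcon
    push Not at hcon
    exact ha (funext hcon)
  obtain ⟨w', hw'0, hw'ψ, hw'a⟩ : ∃ w' : β → F, w' ≠ 0 ∧ w' ⬝ᵥ ψ = 0 ∧ w' ∉ F ∙ a i := by
    obtain ⟨x, hx⟩ := exists_dot_one hi
    obtain ⟨φ', hφ0, hφ'⟩ := exists_perp ![ψ, x] (by omega)
    refine ⟨φ', hφ0, by rw [dotProduct_comm]; exact hφ' 0, fun hm => ?_⟩
    obtain ⟨s, hs⟩ := Submodule.mem_span_singleton.1 hm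
    have := hφ' 1
    rw [← hs] at this
    simp [dotProduct_comm x, hx] at this
    exact hφ0 (by rw [← hs, this, zero_smul])
  have hai : a i ∉ F ∙ w' := fun hm => by
    obtain ⟨s, hs⟩ := Submodule.mem_span_singleton.1 hm
    have hs0 : s ≠ 0 := fun e => hi (by rw [← hs, e, zero_smul])
    exact hw'a (Submodule.mem_span_singleton.2 ⟨s⁻¹, by rw [← hs, inv_smul_smul₀ hs0]⟩)
  obtain ⟨ψ', hψ'w, hψ'a⟩ := exists_ann_dot hai
  have hu : a *ᵥ ψ' ≠ 0 := fun e => by
    have := congrFun e i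
    simp only [Matrix.mulVec, hψ'a, Pi.zero_apply] at this
    exact one_ne_zero this
  refine ⟨a *ᵥ ψ', -f, w', ψ, hu, neg_ne_zero.2 hf0, hw'0, hψ0, hw'ψ, ?_⟩
  have hfr : ∀ T, fn f ψ (root w' ψ' T) = 0 := fun T => by rw [root_apply, fn_inj, hw'ψ, zero_mul]
  have hfa : fn f ψ a = 0 := by rw [fn_apply, hψ, dotProduct_zero]
  unfold T1
  convert hf.commutator (hM.mem_root hψ'w) (CfsgLib.FieldMax.smulRight_sq hfa _) (root_sq hψ'w) ?_ ?_ using 1
  · refine LinearMap.ext fun T => ?_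
    simp only [LinearMap.sub_apply, Module.End.mul_apply, LinearMap.smulRight_apply, map_smul, hfr, zero_smul, zero_sub,
      root_apply]
    simp [fn_apply, contr_inj, hw'ψ]
  · refine LinearMap.ext fun T => ?_
    simp [Module.End.mul_apply, hfr]
  · refine LinearMap.ext fun T => ?_
    simp [Module.End.mul_apply, root_apply, fn_inj, hw'ψ, contr_inj, hψ'w]

/-- All pure transvections. -/
theorem all_pure {φ : Module.Dual F VV} {a : VV} (hφa : φ a = 0) (hφ : φ ≠ 0) (ha : a ≠ 0)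
    (h : Mem M (φ.smulRight a)) : ∀ (u f : α → F) (w ψ : β → F), w ⬝ᵥ ψ = 0 → T1 M u w f ψ := by
  have h3 := hM.three_le
  obtain ⟨u₀, f₀, w₀, ψ₀, hu₀, hf₀, hw₀, hψ₀, h00, h1⟩ := hM.exists_pure hφa hφ ha h
  have hmv : ∀ {u f : α → F} {w ψ w' ψ' : β → F}, w ≠ 0 → ψ ≠ 0 → w ⬝ᵥ ψ = 0 → w' ≠ 0 → ψ' ≠ 0 → w' ⬝ᵥ ψ' = 0 →
      T1 M u w f ψ → T1 M u w' f ψ' := by
    intro u f w ψ w' ψ' a1 a2 a3 a4 a5 a6 h
    obtain ⟨B, hB, eB, eB'⟩ := exists_det_one_pair h3 a1 a2 a3 a4 a5 a6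
    rw [← eB]
    exact hM.t1_right h B hB eB'
  -- make the value of the functional on the centre non-zero
  obtain ⟨f₁, hf₁, h2⟩ : ∃ f₁ : α → F, f₁ ⬝ᵥ u₀ ≠ 0 ∧ T1 M u₀ w₀ f₁ ψ₀ := by
    by_cases hc : f₀ ⬝ᵥ u₀ = 0
    swap
    · exact ⟨f₀, hc, h1⟩
    obtain ⟨x, hx⟩ : ∃ x : α → F, f₀ ⬝ᵥ x = 1 := exists_dot_one hf₀
    obtain ⟨χ, hχx, hχu⟩ : ∃ χ : α → F, x ⬝ᵥ χ = 0 ∧ u₀ ⬝ᵥ χ = 1 := exists_ann_dot fun hm => by
      obtain ⟨s, hs⟩ := Submodule.mem_span_singleton.1 hm
      have hs0 : s ≠ 0 := fun e => hu₀ (by rw [← hs, e, zero_smul])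
      rw [← hs, dotProduct_smul, hx] at hc
      simp [hs0] at hc
    set A : Matrix α α F := 1 + Matrix.vecMulVec x χ
    have hA : A.det = 1 := by
      show (1 + Matrix.vecMulVec x χ).det = 1
      rw [Matrix.vecMulVec_eq Unit, Matrix.det_one_add_replicateCol_mul_replicateRow, dotProduct_comm, hχx, add_zero]
    have hAA : (1 - Matrix.vecMulVec x χ) * A = 1 := by
      rw [show A = 1 + Matrix.vecMulVec x χ from rfl, sub_mul, one_mul, mul_add, mul_one,
        Matrix.vecMulVec_mul_vecMulVec, dotProduct_comm χ x, hχx]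
      simp
    have h1' := hM.t1_left h1 A _ hA hAA
    have hAu : A *ᵥ u₀ = u₀ + x := by
      rw [show A = 1 + Matrix.vecMulVec x χ from rfl, Matrix.add_mulVec, Matrix.one_mulVec, Matrix.vecMulVec_mulVec,
        op_smul_eq_smul, dotProduct_comm χ u₀, hχu, one_smul]
    have hfA : f₀ ᵥ* (1 - Matrix.vecMulVec x χ) = f₀ - χ := by
      rw [Matrix.vecMul_sub, Matrix.vecMul_one, Matrix.vecMul_vecMulVec, hx, one_smul]
    rw [hAu, hfA] at h1'
    obtain ⟨y, hy⟩ := exists_dot_one hψ₀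
    rw [dotProduct_comm] at hy
    obtain ⟨ψ', hψ'0, hψ'⟩ := exists_perp ![w₀, y] (by omega)
    have hy0 : y ≠ 0 := fun e => by simp [e] at hy
    have hT' := hmv hw₀ hψ₀ h00 hy0 hψ'0 (hψ' 1) h1'
    have hcm := hM.t1_comm h1 hT' h00 (hψ' 1)
      (show (w₀ ⬝ᵥ ψ') * _ = 0 by rw [show w₀ ⬝ᵥ ψ' = 0 from hψ' 0, zero_mul])
    rw [hy, dotProduct_add, hc, hx, zero_add, one_mul, one_smul] at hcm
    refine ⟨f₀ - χ, ?_, hmv hw₀ hψ'0 (hψ' 0) hw₀ hψ₀ h00 hcm⟩
    rw [sub_dotProduct, hc, dotProduct_comm χ, hχu, zero_sub]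
    exact neg_ne_zero.2 one_ne_zero
  -- every functional for this centre
  have hscale : ∀ (c : F) (f : α → F), T1 M u₀ w₀ f ψ₀ → T1 M u₀ w₀ (c • f) ψ₀ := by
    intro c f hf
    by_cases hc : c = 0
    · rw [hc, zero_smul]; exact T1.of_zero M u₀ w₀ ψ₀
    have := hmv hw₀ hψ₀ h00 hw₀ (smul_ne_zero hc hψ₀) (by rw [dotProduct_smul, h00, smul_zero]) hf
    unfold T1 at this ⊢
    convert this using 1
    refine LinearMap.ext fun T => ?_
    simp [fn_apply, Matrix.mulVec_smul, dotProduct_smul]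
  have hall : ∀ f, T1 M u₀ w₀ f ψ₀ := by
    intro f
    set c := f ⬝ᵥ u₀ / f₁ ⬝ᵥ u₀
    set χ := f - c • f₁ with hχ
    have hχu : χ ⬝ᵥ u₀ = 0 := by rw [hχ, sub_dotProduct, smul_dotProduct, smul_eq_mul, div_mul_cancel₀ _ hf₁, sub_self]
    set x := (f₁ ⬝ᵥ u₀)⁻¹ • u₀
    have hχx : χ ⬝ᵥ x = 0 := by rw [dotProduct_smul, hχu, smul_zero]
    have hA : (1 + Matrix.vecMulVec x χ).det = 1 := by
      rw [Matrix.vecMulVec_eq Unit, Matrix.det_one_add_replicateCol_mul_replicateRow, hχx, add_zero]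
    have hAA : (1 - Matrix.vecMulVec x χ) * (1 + Matrix.vecMulVec x χ) = 1 := by
      rw [sub_mul, one_mul, mul_add, mul_one, Matrix.vecMulVec_mul_vecMulVec, hχx]
      simp
    have h3' := hM.t1_left h2 _ _ hA hAA
    rw [Matrix.add_mulVec, Matrix.one_mulVec, Matrix.vecMulVec_mulVec, op_smul_eq_smul, hχu, zero_smul, add_zero,
      Matrix.vecMul_sub, Matrix.vecMul_one, Matrix.vecMul_vecMulVec, dotProduct_smul, smul_eq_mul,
      inv_mul_cancel₀ hf₁, one_smul] at h3'
    have h4 := (hscale (c + 1) _ h2).add_fun (hscale (-1) _ (h3')) h00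
    convert (h4 : T1 M u₀ w₀ _ ψ₀).add_fun (hscale 0 _ h2) h00 using 1
    rw [hχ]
    module
  intro u f w ψ hwψ
  rcases eq_or_ne u 0 with rfl | hu
  · unfold T1
    convert Mem.zero (M := M) using 1
    refine LinearMap.ext fun T => ?_
    simp
  rcases eq_or_ne w 0 with rfl | hw
  · unfold T1
    convert Mem.zero (M := M) using 1
    refine LinearMap.ext fun T => ?_
    have h0 : inj (0 : β → F) u = (0 : VV) := by ext i j; simp [inj_apply, Matrix.vecMulVec_apply]
    simp [h0]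
  rcases eq_or_ne ψ 0 with rfl | hψ
  · unfold T1
    convert Mem.zero (M := M) using 1
    refine LinearMap.ext fun T => ?_
    simp [fn_apply]
  obtain ⟨A', hA', eA⟩ := exists_det_one_move hM.two_le hu₀ hu
  have h5 := hM.t1_left (hall (f ᵥ* A'ᵀ)) A'ᵀ A'ᵀ⁻¹ (by rw [Matrix.det_transpose, hA'])
    (Matrix.nonsing_inv_mul _ (by rw [Matrix.det_transpose, hA']; exact isUnit_one))
  rw [Matrix.mulVec_transpose, eA, Matrix.vecMul_vecMul,
    Matrix.mul_nonsing_inv _ (by rw [Matrix.det_transpose, hA']; exact isUnit_one), Matrix.vecMul_one] at h5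
  exact hmv hw₀ hψ₀ h00 hw hψ hwψ h5

/-- A non-root radical element gives a transvection. -/
theorem hasTv_of_nonRoot [Fintype F] (hex : 3 ≤ Fintype.card α ∨ 3 ≤ Fintype.card F) (h : NonRoot M) : HasTv M := by
  have h3 := hM.three_le
  obtain ⟨w₁, δ, hw₁, hD, hδ, hn⟩ := h
  -- a single component that is not scalar
  obtain ⟨E, ψ₂, hψ₂, hw₁ψ₂, hE, hEs⟩ : ∃ (E : (α → F) →ₗ[F] (α → F)) (ψ₂ : β → F), ψ₂ ≠ 0 ∧ w₁ ⬝ᵥ ψ₂ = 0 ∧
      Mem M (inj w₁ ∘ₗ E ∘ₗ contr ψ₂) ∧ ∀ c : F, E ≠ c • LinearMap.id := by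
    by_contra hcon
    push Not at hcon
    have hall : ∀ w : β → F, ∃ c : F, ∀ u, δ (inj w u) = c • u := by
      intro w
      obtain ⟨ψ₂, hψ₂, hp⟩ := exists_perp ![w₁, w] (by omega)
      have h2 : w ⬝ᵥ ψ₂ = 0 := hp 1
      have h1 : w₁ ⬝ᵥ ψ₂ = 0 := hp 0
      obtain ⟨c, hc⟩ := hcon (δ ∘ₗ inj w) ψ₂ hψ₂ h1 (by
        have hD2 : (inj w₁ ∘ₗ δ : Module.End F VV) * (inj w₁ ∘ₗ δ) = 0 := LinearMap.ext fun T => by
          simp [Module.End.mul_apply, hδ]
        have hrD : ∀ T, root w ψ₂ (inj w₁ (δ T)) = 0 := fun T => by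
          rw [root_apply, contr_inj, h1, zero_smul, map_zero]
        convert hD.commutator (hM.mem_root h2) hD2 (root_sq h2) ?_ ?_ using 1
        · refine LinearMap.ext fun T => ?_
          simp [Module.End.mul_apply, hrD, root_apply, contr_apply]
        · refine LinearMap.ext fun T => ?_
          simp only [Module.End.mul_apply, LinearMap.comp_apply, hrD, map_zero, LinearMap.zero_apply]
        · refine LinearMap.ext fun T => ?_
          simp only [Module.End.mul_apply, LinearMap.comp_apply, hrD, LinearMap.zero_apply])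
      exact ⟨c, fun u => by simpa using LinearMap.congr_fun hc u⟩
    choose c hc using hall
    refine hn ⟨fun j => c (Pi.single j 1), fun T => ?_⟩
    have hT : T = ∑ j, inj (Pi.single j 1) (fun i => T i j) := by
      ext i j; simp [Matrix.sum_apply, inj_apply, Matrix.vecMulVec_apply, Pi.single_apply]
    conv_lhs => rw [hT, map_sum]
    simp only [hc]
    funext i
    simp [Matrix.mulVec, dotProduct, mul_comm]
  obtain ⟨x, hx⟩ : ∃ x : α → F, E x ∉ F ∙ x := by
    by_contra hcon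
    push Not at hcon
    have hsc : ∀ v, ∃ c : F, E v = c • v := fun v => by
      obtain ⟨c, hc⟩ := Submodule.mem_span_singleton.1 (hcon v)
      exact ⟨c, hc.symm⟩
    obtain ⟨c, hc⟩ : ∃ c : F, ∀ v, E v = c • v := by
      choose c hc using hsc
      haveI : Nonempty α := Fintype.card_pos_iff.1 (by have := hM.two_le; omega)
      obtain ⟨i⟩ := (inferInstance : Nonempty α)
      refine ⟨c (Pi.single i 1), fun v => ?_⟩
      have key : ∀ j, c (Pi.single j 1) = c (Pi.single i 1) := by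
        intro j
        rcases eq_or_ne j i with rfl | hji
        · rfl
        have h1 := hc (Pi.single j 1 + Pi.single i 1)
        rw [map_add, hc, hc] at h1
        have e1 := congrFun h1 j
        have e2 := congrFun h1 i
        simp [hji, Ne.symm hji] at e1 e2
        rw [e1, e2]
      have hv : v = ∑ j, v j • Pi.single j 1 := by ext k; simp [Pi.single_apply]
      conv_lhs => rw [hv, map_sum]
      conv_rhs => rw [hv, Finset.smul_sum]
      refine Finset.sum_congr rfl fun j _ => ?_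
      rw [map_smul, hc, key, smul_comm]
    exact hEs c (LinearMap.ext fun v => by simpa using hc v)
  have hx0 : x ≠ 0 := fun e => hx (by rw [e, map_zero]; exact zero_mem _)
  -- conjugates by the first factor
  let P : ((α → F) →ₗ[F] (α → F)) → Prop := fun E' => Mem M (inj w₁ ∘ₗ E' ∘ₗ contr ψ₂)
  have hsq : ∀ E' E'' : (α → F) →ₗ[F] (α → F), (inj w₁ ∘ₗ E' ∘ₗ contr ψ₂ : Module.End F VV) * (inj w₁ ∘ₗ E'' ∘ₗ contr ψ₂) = 0 :=
    fun E' E'' => LinearMap.ext fun T => by simp [Module.End.mul_apply, contr_apply, contr_inj, hw₁ψ₂]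
  have hadd : ∀ {E' E''}, P E' → P E'' → P (E' + E'') := fun {E' E''} a b => by
    show Mem M _
    convert a.add b (hsq _ _) using 1
    refine LinearMap.ext fun T => ?_; simp
  have hneg : ∀ {E'}, P E' → P (-E') := fun {E'} a => by
    show Mem M _
    convert a.neg (hsq _ _) using 1
    refine LinearMap.ext fun T => ?_; simp
  have hsmul : ∀ (c : F) {E'}, c ≠ 0 → P E' → P (c • E') := fun c {E'} hc a => by
    obtain ⟨B, hB, eB, eB'⟩ := exists_det_one_pair h3 hw₁ hψ₂ hw₁ψ₂ hw₁ (smul_ne_zero hc hψ₂)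
      (by rw [dotProduct_smul, hw₁ψ₂, smul_zero])
    obtain ⟨g, hg, e, eg⟩ := hM.exists_right hB
    show Mem M _
    convert a.conj hg using 1
    refine LinearMap.ext fun T => ?_
    obtain ⟨S, rfl⟩ : ∃ S, (g : Module.End F VV) S = T := ⟨_, apply_inv_apply g T⟩
    simp only [Module.End.mul_apply, inv_apply_apply, LinearMap.comp_apply, LinearMap.smul_apply, eg, eB, contr_apply]
    rw [e, mulR_apply, ← map_smul, ← Matrix.mulVec_mulVec]
    have : B *ᵥ ψ₂ = c⁻¹ • ψ₂ := by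
      conv_rhs => rw [← eB', Matrix.mulVec_smul, inv_smul_smul₀ hc]
    rw [this, Matrix.mulVec_smul, map_smul, ← map_smul, smul_smul, mul_inv_cancel₀ hc, one_smul]
  have hconj : ∀ (y φ : α → F), φ ⬝ᵥ y = 0 → ∀ {E'}, P E' →
      P (LinearMap.comp (Matrix.mulVecLin (Matrix.vecMulVec y φ)) E' - E' ∘ₗ Matrix.mulVecLin (Matrix.vecMulVec y φ) -
        Matrix.mulVecLin (Matrix.vecMulVec y φ) ∘ₗ E' ∘ₗ Matrix.mulVecLin (Matrix.vecMulVec y φ)) := by
    intro y φ hyφ E' a
    obtain ⟨g, hg, e⟩ := hM.left (1 + Matrix.vecMulVec y φ) (by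
      rw [Matrix.vecMulVec_eq Unit, Matrix.det_one_add_replicateCol_mul_replicateRow, hyφ, add_zero])
    have hNN : ∀ v : α → F, Matrix.vecMulVec y φ *ᵥ Matrix.vecMulVec y φ *ᵥ v = 0 := fun v => by
      rw [Matrix.mulVec_mulVec, Matrix.vecMulVec_mul_vecMulVec, hyφ, zero_smul, Matrix.vecMulVec_zero,
        Matrix.zero_mulVec]
    show Mem M _
    convert (a.conj hg).add (hneg a) ?_ using 1
    · refine LinearMap.ext fun T => ?_
      obtain ⟨S, rfl⟩ : ∃ S, (g : Module.End F VV) S = T := ⟨_, apply_inv_apply g T⟩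
      have hg' : ∀ S, (g : Module.End F VV) S = (1 + Matrix.vecMulVec y φ) * S := fun S => by rw [e, mulL_apply]
      simp only [LinearMap.add_apply, Module.End.mul_apply, inv_apply_apply, LinearMap.comp_apply, LinearMap.neg_apply,
        LinearMap.sub_apply, contr_apply, Matrix.mulVecLin_apply]
      rw [hg' S, hg']
      simp only [← Matrix.mulVec_mulVec]
      rw [inj_apply w₁ (E' (S *ᵥ ψ₂)), Matrix.mul_vecMulVec, ← inj_apply w₁]
      simp only [← map_neg, ← map_add]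
      congr 1
      simp only [Matrix.add_mulVec, Matrix.one_mulVec, map_add, map_neg, Matrix.mulVec_add, hNN, map_zero,
        Matrix.mulVec_zero, neg_add_rev]
      abel
    · refine LinearMap.ext fun T => ?_
      obtain ⟨S, rfl⟩ : ∃ S, (g : Module.End F VV) S = T := ⟨_, apply_inv_apply g T⟩
      simp only [Module.End.mul_apply, LinearMap.comp_apply, LinearMap.neg_apply, contr_apply, map_neg,
        LinearMap.zero_apply, neg_eq_zero]
      have h0 : ((g⁻¹ : (Module.End F VV)ˣ) : Module.End F VV) (inj w₁ (E' ((g : Module.End F VV) S *ᵥ ψ₂))) *ᵥ ψ₂ = 0 := by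
        have hinv : ∀ v, ((g⁻¹ : (Module.End F VV)ˣ) : Module.End F VV) (inj w₁ v) =
            inj w₁ (v - Matrix.vecMulVec y φ *ᵥ v) := fun v => by
          apply CfsgLib.FieldMax.map_unit_inj g
          rw [apply_inv_apply, e, mulL_apply, inj_apply, inj_apply, Matrix.mul_vecMulVec]
          congr 1
          simp only [Matrix.add_mulVec, Matrix.one_mulVec, Matrix.mulVec_sub, hNN, sub_zero]
          abel
        rw [hinv, contr_inj, hw₁ψ₂, zero_smul]
      rw [h0]; simp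
  have hrank : ∀ (v φ : α → F), v ≠ 0 → φ ≠ 0 → P (Matrix.mulVecLin (Matrix.vecMulVec v φ)) → HasTv M := by
    intro v φ hv hφ a
    refine ⟨fn φ ψ₂, inj w₁ v, by rw [fn_inj, hw₁ψ₂, zero_mul], fun e => hφ ?_, fun e => hv ?_, ?_⟩
    · funext i
      obtain ⟨T, hT⟩ := contr_surjective hψ₂ (Pi.single i 1)
      have := LinearMap.congr_fun e T
      simpa [fn_apply, hT] using this
    · exact inj_injective hw₁ (e.trans (map_zero _).symm)
    · convert a using 1
      refine LinearMap.ext fun T => ?_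
      simp only [LinearMap.smulRight_apply, LinearMap.comp_apply, fn_apply, contr_apply, Matrix.mulVecLin_apply]
      rw [Matrix.vecMulVec_mulVec, op_smul_eq_smul, map_smul]
  obtain ⟨φ₁, hφ₁x, hφ₁E⟩ := exists_ann_dot hx
  rw [dotProduct_comm] at hφ₁x hφ₁E
  by_cases hq : 3 ≤ Fintype.card F
  · obtain ⟨c, hc0, hc1⟩ : ∃ c : F, c ≠ 0 ∧ c ≠ 1 := by
      classical
      by_contra hcon
      push Not at hcon
      have hsub : (Finset.univ : Finset F) ⊆ {0, 1} := fun s _ => by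
        by_cases h0' : s = 0
        · simp [h0']
        · simp [hcon s h0']
      have h5 := (Finset.card_le_card hsub).trans Finset.card_le_two
      rw [Finset.card_univ] at h5
      omega
    have a1 := hsmul c hc0 (hconj x φ₁ hφ₁x hE)
    have a2 := hconj (c • x) φ₁ (by rw [dotProduct_smul, hφ₁x, smul_zero]) hE
    refine hrank ((c * c - c) • x) φ₁ (smul_ne_zero ?_ hx0) (fun e => by simp [e] at hφ₁E) ?_
    · rw [show c * c - c = c * (c - 1) by ring]; exact mul_ne_zero hc0 (sub_ne_zero.2 hc1)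
    convert hadd a1 (hneg a2) using 1
    refine LinearMap.ext fun v => ?_
    simp only [LinearMap.add_apply, LinearMap.neg_apply, LinearMap.smul_apply, LinearMap.sub_apply, LinearMap.comp_apply,
      Matrix.mulVecLin_apply, Matrix.vecMulVec_mulVec, op_smul_eq_smul, map_smul, dotProduct_smul, hφ₁E, smul_eq_mul]
    module
  · have hn1 : 3 ≤ Fintype.card α := hex.resolve_right hq
    obtain ⟨φ₂, hφ₂0, hp⟩ := exists_perp ![x, E x] (by omega)
    have h2x : φ₂ ⬝ᵥ x = 0 := by rw [dotProduct_comm]; exact hp 0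
    have h2E : φ₂ ⬝ᵥ E x = 0 := by rw [dotProduct_comm]; exact hp 1
    refine hrank (-x) φ₂ (neg_ne_zero.2 hx0) hφ₂0 ?_
    convert hadd (hconj x (φ₁ + φ₂) (by rw [add_dotProduct, hφ₁x, h2x, add_zero]) hE)
      (hneg (hadd (hconj x φ₁ hφ₁x hE) (hconj x φ₂ h2x hE))) using 1
    refine LinearMap.ext fun v => ?_
    simp only [LinearMap.add_apply, LinearMap.neg_apply, LinearMap.sub_apply, LinearMap.comp_apply,
      Matrix.mulVecLin_apply, Matrix.vecMulVec_mulVec, op_smul_eq_smul, map_smul, map_add, dotProduct_smul,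
      add_dotProduct, hφ₁E, h2E, smul_eq_mul, mul_zero, add_smul]
    module

end TExt

end CfsgLib.TensorMax
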